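import Mathlib
import Cfsg.Agent.Helper7.ChevSylow

set_option autoImplicit false

/-!
# A word making the fundamental roots of `J` negative makes all of `Φ_J⁺` negative (helper1)

Table fact: every positive root is fundamental or a commutator term of two smaller positive roots
(a fundamental one and the root obtained by subtracting it) whose supports lie in its support.
-/

namespace Cfsg.Agent.ChevUni

open Cfsg Cfsg.Lie Cfsg.Agent.Helper7.Chev

/-- The root `r - p_i`, read off the chain of `-p_i` through `r` (0 if it is not a root). -/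
def h1_prev (T : Tab) (i r : ℕ) : ℕ := (T.chainRoot (T.neg (T.simple i)) r 1).getD 0

/-- `r` is a commutator term of `p_i` and `r - p_i`, both positive, smaller than `r` and with
support inside that of `r`. -/
def h1_SplitAt (T : Tab) (r i : ℕ) : Prop :=
  T.n / 2 ≤ h1_prev T i r ∧ h1_prev T i r < r ∧ T.n / 2 ≤ T.simple i ∧ T.simple i < r ∧
    T.simple i ≠ h1_prev T i r ∧
    (T.commTerms (min (T.simple i) (h1_prev T i r)) (max (T.simple i) (h1_prev T i r))).any
      (fun c => decide (c.1 = r)) = true ∧
    AllLt T.l (fun k => T.cr r k = 0 → T.cr (T.simple i) k = 0 ∧ T.cr (h1_prev T i r) k = 0)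

instance (T : Tab) (r i : ℕ) : Decidable (h1_SplitAt T r i) := by
  unfold h1_SplitAt; infer_instance

/-- Every positive root is fundamental or splits. -/
def h1_SplitOK (T : Tab) : Prop :=
  AllLt T.n (fun r => T.n / 2 ≤ r →
    (¬ AllLt T.l (fun i => ¬ (T.simple i = r ∧ T.cr r i ≠ 0))) ∨
    (¬ AllLt T.l (fun i => ¬ h1_SplitAt T r i)))

instance (T : Tab) : Decidable (h1_SplitOK T) := by unfold h1_SplitOK; infer_instance

set_option maxRecDepth 1000000 in
set_option maxHeartbeats 0 in
theorem h1_splitFast_G2 : h1_SplitOK fastG2 := by decide +kernel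

theorem h1_split_G2 : h1_SplitOK (tabOf chevG2) := tab_G2 ▸ h1_splitFast_G2

set_option maxRecDepth 1000000 in
set_option maxHeartbeats 0 in
theorem h1_splitFast_B2 : h1_SplitOK fastB2 := by decide +kernel

theorem h1_split_B2 : h1_SplitOK (tabOf chevB2) := tab_B2 ▸ h1_splitFast_B2

set_option maxRecDepth 1000000 in
set_option maxHeartbeats 0 in
theorem h1_splitFast_D4 : h1_SplitOK fastD4 := by decide +kernel

theorem h1_split_D4 : h1_SplitOK (tabOf chevD4) := tab_D4 ▸ h1_splitFast_D4

set_option maxRecDepth 1000000 in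
set_option maxHeartbeats 0 in
theorem h1_splitFast_F4 : h1_SplitOK fastF4 := by decide +kernel

theorem h1_split_F4 : h1_SplitOK (tabOf chevF4) := tab_F4 ▸ h1_splitFast_F4

set_option maxRecDepth 1000000 in
set_option maxHeartbeats 0 in
theorem h1_splitFast_E6 : h1_SplitOK fastE6 := by decide +kernel

theorem h1_split_E6 : h1_SplitOK (tabOf chevE6) := tab_E6 ▸ h1_splitFast_E6

set_option maxRecDepth 1000000 in
set_option maxHeartbeats 0 in
theorem h1_splitFast_E7 : h1_SplitOK fastE7 := by decide +kernel

theorem h1_split_E7 : h1_SplitOK (tabOf chevE7) := tab_E7 ▸ h1_splitFast_E7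

set_option maxRecDepth 1000000 in
set_option maxHeartbeats 0 in
theorem h1_splitFast_E8 : h1_SplitOK fastE8 := by decide +kernel

theorem h1_split_E8 : h1_SplitOK (tabOf chevE8) := tab_E8 ▸ h1_splitFast_E8

theorem h1_split_of_mem (D : ChevalleyDatum)
    (hD : D ∈ [chevG2, chevB2, chevD4, chevF4, chevE6, chevE7, chevE8]) : h1_SplitOK (tabOf D) :=
  Cfsg.Agent.Helper7.chev_cases (p := fun D => h1_SplitOK (tabOf D)) D hD h1_split_G2 h1_split_B2 h1_split_D4
    h1_split_F4 h1_split_E6 h1_split_E7 h1_split_E8

theorem h1_T7n_of_mem (D : ChevalleyDatum)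
    (hD : D ∈ [chevG2, chevB2, chevD4, chevF4, chevE6, chevE7, chevE8]) : (tabOf D).T7n :=
  Cfsg.Agent.Helper7.chev_cases (p := fun D => (tabOf D).T7n) D hD T7n_G2 T7n_B2 T7n_D4 T7n_F4 T7n_E6 T7n_E7 T7n_E8

section

variable {D : ChevalleyDatum}
variable (hG : Good2 D) (hT : T0 D) (h3 : (tabOf D).T3) (h7 : (tabOf D).T7)
  (h7n : (tabOf D).T7n) (hS : h1_SplitOK (tabOf D))

include hG hT h3 h7 h7n hS in
/-- A word making the fundamental roots of `J` negative makes every positive root of `Φ_J`
negative. -/
theorem h1_reflWord_neg {J : Set ℕ} {w : List ℕ} (hw : ∀ i ∈ w, i < D.rank)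
    (hJ : ∀ j ∈ J, j < D.rank → (tabOf D).reflWord w (D.simple j) < D.nroots / 2) :
    ∀ r, D.IsPosRoot r → D.InRootSub J r → (tabOf D).reflWord w r < D.nroots / 2 := by
  intro r
  induction r using Nat.strong_induction_on with
  | _ r ih =>
  intro hpos hrJ
  have hr : r < D.nroots := hpos.1
  have hr1 : D.nroots / 2 ≤ r := (isPosRoot_iff hT hr).mp hpos
  have hclosed := closedSet_minusSet hG hT h3 h7 h7n hw
  rcases hS r hr hr1 with h | h
  · -- a fundamental root
    unfold AllLt at h
    push Not at h
    obtain ⟨i, hi, hsi, hcr⟩ := h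
    have hi' : i < D.rank := hi
    have hsi' : D.simple i = r := hsi
    have hiJ : i ∈ J := by
      by_contra hn
      exact hcr (hrJ.2 i hi' hn)
    have := hJ i hiJ hi'
    rwa [hsi'] at this
  · -- a commutator term of two smaller roots
    unfold AllLt at h
    push Not at h
    obtain ⟨i, hi, hb1, hb2, ha1, ha2, hne, hany, hsupp⟩ := h
    set a : ℕ := D.simple i with ha
    set b : ℕ := h1_prev (tabOf D) i r with hb
    have ha1' : D.nroots / 2 ≤ a := ha1
    have ha2' : a < r := ha2
    have hb1' : D.nroots / 2 ≤ b := hb1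
    have hb2' : b < r := hb2
    have hne' : a ≠ b := hne
    have hapos : D.IsPosRoot a := (isPosRoot_iff hT (by omega)).mpr ha1'
    have hbpos : D.IsPosRoot b := (isPosRoot_iff hT (by omega)).mpr hb1'
    have haJ : D.InRootSub J a :=
      ⟨by omega, fun k hk hkJ => (hsupp k hk (hrJ.2 k hk hkJ)).1⟩
    have hbJ : D.InRootSub J b :=
      ⟨by omega, fun k hk hkJ => (hsupp k hk (hrJ.2 k hk hkJ)).2⟩
    have hwa := ih a ha2' hapos haJ
    have hwb := ih b hb2' hbpos hbJ
    rw [List.any_eq_true] at hany
    obtain ⟨c, hc, hcr⟩ := hany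
    have hcr' : c.1 = r := of_decide_eq_true hcr
    rcases lt_or_gt_of_ne hne' with hlt | hgt
    · have hc' : c ∈ (tabOf D).commTerms a b := by
        have : c ∈ (tabOf D).commTerms (min a b) (max a b) := hc
        rwa [min_eq_left hlt.le, max_eq_right hlt.le] at this
      have := hclosed a b ha1' hlt (by omega) ⟨ha1', by omega, hwa⟩ ⟨hb1', by omega, hwb⟩ c hc'
      rw [hcr'] at this
      exact this.2.2
    · have hc' : c ∈ (tabOf D).commTerms b a := by
        have : c ∈ (tabOf D).commTerms (min a b) (max a b) := hc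
        rwa [min_eq_right hgt.le, max_eq_left hgt.le] at this
      have := hclosed b a hb1' hgt (by omega) ⟨hb1', by omega, hwb⟩ ⟨ha1', by omega, hwa⟩ c hc'
      rw [hcr'] at this
      exact this.2.2

end

end Cfsg.Agent.ChevUni
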