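import Mathlib
import Cfsg.Agent.Helper7.ChevLevi2

set_option autoImplicit false

/-!
# The subgroup `B_J = U_J H` of a Chevalley group: conjugates and index (helper1)

`h1_mem_rad_of_conj`: a `B`-conjugate of `u ∈ U` lies in `U_J H` only if `u ∈ U_J`.
`h1_relIndex_mul_card`: `[B : U_J H] · |U_J| = |U|`.
-/

namespace Cfsg.Agent.ChevUni

open Cfsg Cfsg.Lie Matrix Cfsg.Agent.Helper7.Chev
open scoped Pointwise

/-- The order of `A H` for `H` normalising `A` with `A ∩ H = 1`. -/
theorem h1_card_sup {G : Type*} [Group G] (A H : Subgroup G)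
    (hN : H ≤ Subgroup.normalizer (A : Set G)) (hinf : A ⊓ H = ⊥) :
    Nat.card ↥(A ⊔ H) = Nat.card A * Nat.card H := by
  have hmul := Subgroup.coe_mul_of_right_le_normalizer_left A H hN
  let Φ : ↥A × ↥H → ↥(A ⊔ H) := fun q =>
    ⟨(q.1 : G) * (q.2 : G), mul_mem (Subgroup.mem_sup_left q.1.2) (Subgroup.mem_sup_right q.2.2)⟩
  have hinj : Function.Injective Φ := by
    rintro ⟨⟨u, hu⟩, ⟨h, hh⟩⟩ ⟨⟨u', hu'⟩, ⟨h', hh'⟩⟩ e
    have e' : u * h = u' * h' := congrArg (fun x : ↥(A ⊔ H) => (x : G)) e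
    have hmem : u'⁻¹ * u ∈ A ⊓ H := by
      refine Subgroup.mem_inf.mpr ⟨mul_mem (inv_mem hu') hu, ?_⟩
      have : u'⁻¹ * u = h' * h⁻¹ := by
        calc u'⁻¹ * u = u'⁻¹ * (u * h) * h⁻¹ := by group
          _ = u'⁻¹ * (u' * h') * h⁻¹ := by rw [e']
          _ = _ := by group
      rw [this]
      exact mul_mem hh' (inv_mem hh)
    rw [hinf, Subgroup.mem_bot] at hmem
    have huu : u = u' := (inv_mul_eq_one.mp hmem).symm
    subst huu
    have hhh : h = h' := mul_left_cancel e'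
    subst hhh
    rfl
  have hsurj : Function.Surjective Φ := by
    rintro ⟨b, hb⟩
    have : b ∈ (A : Set G) * (H : Set G) := by
      rw [← hmul]; exact hb
    obtain ⟨u, hu, h, hh, rfl⟩ := this
    exact ⟨⟨⟨u, hu⟩, ⟨h, hh⟩⟩, rfl⟩
  rw [← Nat.card_congr (Equiv.ofBijective Φ ⟨hinj, hsurj⟩), Nat.card_prod]

variable {D : ChevalleyDatum} {F : Type*} [Field F]

theorem h1_rad_le_pos (J : Set ℕ) : D.unipotentRadical F J ≤ D.posUnipotent F := by
  unfold ChevalleyDatum.unipotentRadical ChevalleyDatum.posUnipotent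
  apply Subgroup.closure_mono
  rintro g ⟨r, t, h1, -, h3⟩
  exact ⟨r, t, h1, h3⟩

section

variable (hG : Good2 D) (hT : T0 D) (h3 : (tabOf D).T3) (h4 : (tabOf D).T4 60)
  (h6 : (tabOf D).T6) (h14 : (tabOf D).T14)

include hG in
/-- `H` normalises `U_J`. -/
theorem h1_diagonal_le_normalizer_rad (J : Set ℕ) :
    D.diagonalSubgroup F ≤ Subgroup.normalizer (D.unipotentRadical F J : Set (GL D.Idx F)) := by
  rw [unipotentRadical_eq]
  exact diagonalSubgroup_le_normalizer hG (fun r hr => hr.1.1)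

include hG hT in
/-- `U_J ∩ H = 1`. -/
theorem h1_rad_inf_diagonal (J : Set ℕ) :
    D.unipotentRadical F J ⊓ D.diagonalSubgroup F = ⊥ := by
  rw [eq_bot_iff, ← posUnipotent_inf_diagonal (F := F) hG hT]
  exact inf_le_inf_right _ (h1_rad_le_pos J)

include hG hT h3 h4 h6 h14 in
/-- (F2) A `B`-conjugate of `u ∈ U` lies in `U_J H` only if `u ∈ U_J`. -/
theorem h1_mem_rad_of_conj {J : Set ℕ} {u x : GL D.Idx F}
    (hu : u ∈ D.posUnipotent F) (hx : x ∈ D.borelSubgroup F)
    (hc : x⁻¹ * u * x ∈ D.unipotentRadical F J ⊔ D.diagonalSubgroup F) :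
    u ∈ D.unipotentRadical F J := by
  have hBN : D.borelSubgroup F ≤ Subgroup.normalizer (D.posUnipotent F : Set (GL D.Idx F)) :=
    sup_le Subgroup.le_normalizer (diagonalSubgroup_le_normalizer_pos hG)
  have hy : x⁻¹ * u * x ∈ D.posUnipotent F := by
    have := (Subgroup.mem_set_normalizer_iff.mp (hBN (inv_mem hx)) u).mp hu
    rwa [inv_inv] at this
  have hmul := Subgroup.coe_mul_of_right_le_normalizer_left (D.unipotentRadical F J)
    (D.diagonalSubgroup F) (h1_diagonal_le_normalizer_rad hG J)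
  have hc' : x⁻¹ * u * x ∈ (D.unipotentRadical F J : Set (GL D.Idx F)) *
      (D.diagonalSubgroup F : Set (GL D.Idx F)) := by
    rw [← hmul]; exact hc
  obtain ⟨a, ha, t, ht, hat⟩ := hc'
  have ha : a ∈ D.unipotentRadical F J := ha
  have ht : t ∈ D.diagonalSubgroup F := ht
  have ht1 : t ∈ D.posUnipotent F ⊓ D.diagonalSubgroup F := by
    refine Subgroup.mem_inf.mpr ⟨?_, ht⟩
    have : t = a⁻¹ * (x⁻¹ * u * x) := by
      change a * t = x⁻¹ * u * x at hat
      rw [← hat]; group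
    rw [this]
    exact mul_mem (inv_mem (h1_rad_le_pos J ha)) hy
  rw [posUnipotent_inf_diagonal hG hT, Subgroup.mem_bot] at ht1
  have hya : x⁻¹ * u * x ∈ D.unipotentRadical F J := by
    change a * t = x⁻¹ * u * x at hat
    rw [← hat, ht1, mul_one]
    exact ha
  have hxP : x ∈ D.parabolicSubgroup F J := Subgroup.mem_sup_left hx
  have hn := parabolic_le_normalizer_rad (F := F) hG hT h3 h4 h6 h14 J hxP
  have := (Subgroup.mem_set_normalizer_iff.mp hn _).mp hya
  have e : x * (x⁻¹ * u * x) * x⁻¹ = u := by group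
  rwa [e] at this

include hG hT in
/-- (F3) `[B : U_J H] · |U_J| = |U|`. -/
theorem h1_relIndex_mul_card [Fintype F] (J : Set ℕ) :
    (D.unipotentRadical F J ⊔ D.diagonalSubgroup F).relIndex (D.borelSubgroup F) *
      Nat.card (D.unipotentRadical F J) = Nat.card (D.posUnipotent F) := by
  have hle : D.unipotentRadical F J ⊔ D.diagonalSubgroup F ≤ D.borelSubgroup F :=
    sup_le_sup_right (h1_rad_le_pos J) _
  have h1 : Nat.card (D.borelSubgroup F) =
      Nat.card (D.posUnipotent F) * Nat.card (D.diagonalSubgroup F) :=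
    h1_card_sup _ _ (diagonalSubgroup_le_normalizer_pos hG) (posUnipotent_inf_diagonal hG hT)
  have h2 : Nat.card ↥(D.unipotentRadical F J ⊔ D.diagonalSubgroup F) =
      Nat.card (D.unipotentRadical F J) * Nat.card (D.diagonalSubgroup F) :=
    h1_card_sup _ _ (h1_diagonal_le_normalizer_rad hG J) (h1_rad_inf_diagonal hG hT J)
  have h3 : (D.unipotentRadical F J ⊔ D.diagonalSubgroup F).relIndex (D.borelSubgroup F) *
      Nat.card ↥(D.unipotentRadical F J ⊔ D.diagonalSubgroup F) =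
      Nat.card (D.borelSubgroup F) := by
    rw [Subgroup.relIndex, ← Nat.card_congr (Subgroup.subgroupOfEquivOfLe hle).toEquiv]
    exact Subgroup.index_mul_card _
  rw [h1, h2, ← mul_assoc] at h3
  exact Nat.eq_of_mul_eq_mul_right Nat.card_pos h3

end

end Cfsg.Agent.ChevUni
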