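import Mathlib
import Cfsg.Agent.ChevUni.H1_F
import Cfsg.Agent.Helper7.ChevBN

set_option autoImplicit false

/-!
# `B ∩ n B n⁻¹ = U_J H` for `n` over the longest element of `W_J` (helper1)

`n = h * nWordGL w`, `w` a word in `J` whose inverse makes every positive root of `Φ_J` negative.
-/

namespace Cfsg.Agent.ChevUni

open Cfsg Cfsg.Lie Matrix Cfsg.Agent.Helper7.Chev
open scoped Pointwise

variable {D : ChevalleyDatum} {F : Type*} [Field F]

/-- The roots of `U ∩ L_J`. -/
def h1_InLev (D : ChevalleyDatum) (J : Set ℕ) (r : ℕ) : Prop := D.IsPosRoot r ∧ D.InRootSub J r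

section

variable (hG : Good2 D) (hT : T0 D) (h3 : (tabOf D).T3) (h4 : (tabOf D).T4 60)
  (h6 : (tabOf D).T6) (h14 : (tabOf D).T14)

include hG in
/-- The element of `N` of a word in `J` lies in `P_J`. -/
theorem h1_nWordGL_mem_parabolic {J : Set ℕ} {w : List ℕ} (hw : ∀ i ∈ w, i < D.rank ∧ i ∈ J) :
    (nWordGL hG w : GL D.Idx F) ∈ D.parabolicSubgroup F J := by
  induction w with
  | nil =>
    rw [nWordGL_nil]
    exact one_mem _
  | cons i w ih =>
    have hi := hw i (List.mem_cons_self)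
    have hw' : ∀ j ∈ w, j < D.rank ∧ j ∈ J := fun j hj => hw j (List.mem_cons_of_mem _ hj)
    rw [nWordGL_cons hG hi.1]
    exact mul_mem (nGL_mem_parabolic hG hi.1 hi.2) (ih hw')

include hG hT h3 h4 h14 in
/-- `U = U_J (U ∩ L_J)`. -/
theorem h1_pos_decomp (J : Set ℕ) {u : GL D.Idx F} (hu : u ∈ D.posUnipotent F) :
    ∃ a ∈ D.unipotentRadical F J, ∃ l ∈ Subgroup.closure (rootGen D F (h1_InLev D J)),
      u = a * l := by
  classical
  have hLU : Subgroup.closure (rootGen D F (h1_InLev D J)) ≤ D.posUnipotent F := by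
    rw [posUnipotent_eq]
    apply Subgroup.closure_mono
    rintro g ⟨r, t, hr, hg⟩
    exact ⟨r, t, hr.1, hg⟩
  have hN : Subgroup.closure (rootGen D F (h1_InLev D J)) ≤
      Subgroup.normalizer (D.unipotentRadical F J : Set (GL D.Idx F)) := by
    rw [unipotentRadical_eq]
    exact hLU.trans (posUnipotent_le_normalizer_rad hG hT h3 h4 h14 J)
  have hmul := Subgroup.coe_mul_of_right_le_normalizer_left (D.unipotentRadical F J)
    (Subgroup.closure (rootGen D F (h1_InLev D J))) hN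
  have hle : D.posUnipotent F ≤
      D.unipotentRadical F J ⊔ Subgroup.closure (rootGen D F (h1_InLev D J)) := by
    rw [posUnipotent_eq, Subgroup.closure_le]
    rintro g ⟨r, t, hr, hg⟩
    by_cases hrJ : D.InRootSub J r
    · exact Subgroup.mem_sup_right (Subgroup.subset_closure ⟨r, t, ⟨hr, hrJ⟩, hg⟩)
    · apply Subgroup.mem_sup_left
      rw [unipotentRadical_eq]
      exact Subgroup.subset_closure ⟨r, t, ⟨hr, hrJ⟩, hg⟩
  have h1 : u ∈ (D.unipotentRadical F J : Set (GL D.Idx F)) *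
      (Subgroup.closure (rootGen D F (h1_InLev D J)) : Set (GL D.Idx F)) := by
    rw [← hmul]
    exact hle hu
  obtain ⟨a, ha, l, hl, e⟩ := h1
  exact ⟨a, ha, l, hl, e.symm⟩

include hG hT in
/-- The inverse of a word making the positive roots of `Φ_J` negative conjugates `U ∩ L_J`
into `V`. -/
theorem h1_conj_lev_mem_neg {J : Set ℕ} {w : List ℕ} (hw : ∀ i ∈ w, i < D.rank)
    (hnegAll : ∀ r, D.IsPosRoot r → D.InRootSub J r →
      (tabOf D).reflWord w.reverse r < D.nroots / 2)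
    {l : GL D.Idx F} (hl : l ∈ Subgroup.closure (rootGen D F (h1_InLev D J))) :
    (nWordGL hG w)⁻¹ * l * nWordGL hG w ∈ D.negUnipotent F := by
  have hG1 := hG.toGood1
  induction hl using Subgroup.closure_induction with
  | mem x hx =>
    obtain ⟨r, t, ⟨hrpos, hrJ⟩, hx⟩ := hx
    have hr : r < D.nroots := hrpos.1
    have hx' : x = xGL hG1 hr t := eq_xGL hG1 hr hx
    obtain ⟨hr', t', e⟩ := nWordGL_inv_conj (F := F) hG hw hr t
    rw [hx', e, negUnipotent_eq]
    apply Subgroup.subset_closure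
    exact ⟨_, t', (isNegRoot_iff hT hr').mpr (hnegAll r hrpos hrJ), xGL_coe hG1 hr' t'⟩
  | one =>
    rw [mul_one, inv_mul_cancel]
    exact one_mem _
  | mul x y _ _ hx hy =>
    have e : (nWordGL hG w)⁻¹ * (x * y) * nWordGL hG w =
        ((nWordGL hG w)⁻¹ * x * nWordGL hG w) * ((nWordGL hG w)⁻¹ * y * nWordGL hG w) := by
      group
    rw [e]
    exact mul_mem hx hy
  | inv x _ hx =>
    have e : (nWordGL hG w)⁻¹ * x⁻¹ * nWordGL hG w =
        ((nWordGL hG w)⁻¹ * x * nWordGL hG w)⁻¹ := by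
      group
    rw [e]
    exact inv_mem hx

include hG hT h3 h4 h6 h14 in
/-- `B ∩ n B n⁻¹ = U_J H`. -/
theorem h1_borel_inf_conj {J : Set ℕ} {w : List ℕ} (hw : ∀ i ∈ w, i < D.rank ∧ i ∈ J)
    (hnegAll : ∀ r, D.IsPosRoot r → D.InRootSub J r →
      (tabOf D).reflWord w.reverse r < D.nroots / 2)
    {h : GL D.Idx F} (hh : h ∈ D.diagonalSubgroup F) (b : GL D.Idx F) :
    (b ∈ D.borelSubgroup F ∧
      (h * nWordGL hG w)⁻¹ * b * (h * nWordGL hG w) ∈ D.borelSubgroup F) ↔
      b ∈ D.unipotentRadical F J ⊔ D.diagonalSubgroup F := by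
  have hG1 := hG.toGood1
  have hw' : ∀ i ∈ w, i < D.rank := fun i hi => (hw i hi).1
  have hUB : D.posUnipotent F ≤ D.borelSubgroup F := le_sup_left
  have hHB : D.diagonalSubgroup F ≤ D.borelSubgroup F := le_sup_right
  have hRU : D.unipotentRadical F J ≤ D.posUnipotent F := h1_rad_le_pos J
  set n : GL D.Idx F := h * nWordGL hG w with hn
  -- `n` normalises `H` and `U_J`
  have hnN : n ∈ D.monomialSubgroup F :=
    mul_mem (Subgroup.mem_sup_left hh) (nWordGL_mem hG w)
  have hnH := monomialSubgroup_le_normalizer hG hnN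
  have hnP : n ∈ D.parabolicSubgroup F J :=
    mul_mem (Subgroup.mem_sup_left (hHB hh)) (h1_nWordGL_mem_parabolic hG hw)
  have hnR := parabolic_le_normalizer_rad (F := F) hG hT h3 h4 h6 h14 J hnP
  have hconjR : ∀ a ∈ D.unipotentRadical F J, n⁻¹ * a * n ∈ D.unipotentRadical F J := by
    intro a ha
    have := (Subgroup.mem_set_normalizer_iff.mp (inv_mem hnR) a).mp ha
    rwa [inv_inv] at this
  have hconjH : ∀ t ∈ D.diagonalSubgroup F, n⁻¹ * t * n ∈ D.diagonalSubgroup F :=
    fun t ht => conj_mem_diagonal' hnH ht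
  have hmulBJ := Subgroup.coe_mul_of_right_le_normalizer_left (D.unipotentRadical F J)
    (D.diagonalSubgroup F) (h1_diagonal_le_normalizer_rad hG J)
  have hmulB := Subgroup.coe_mul_of_right_le_normalizer_left (D.posUnipotent F)
    (D.diagonalSubgroup F) (diagonalSubgroup_le_normalizer_pos hG)
  constructor
  · rintro ⟨hb, hc⟩
    have hb' : b ∈ (D.posUnipotent F : Set (GL D.Idx F)) *
        (D.diagonalSubgroup F : Set (GL D.Idx F)) := by
      rw [← hmulB]; exact hb
    obtain ⟨u, hu, t, ht, rfl⟩ := hb'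
    have hu : u ∈ D.posUnipotent F := hu
    have ht : t ∈ D.diagonalSubgroup F := ht
    -- `n⁻¹ u n ∈ B`
    have hcu : n⁻¹ * u * n ∈ D.borelSubgroup F := by
      have e : n⁻¹ * u * n = (n⁻¹ * (u * t) * n) * (n⁻¹ * t * n)⁻¹ := by group
      rw [e]
      exact mul_mem hc (inv_mem (hHB (hconjH t ht)))
    obtain ⟨a, ha, l, hl, rfl⟩ := h1_pos_decomp hG hT h3 h4 h14 J hu
    have hcl : n⁻¹ * l * n ∈ D.borelSubgroup F := by
      have e : n⁻¹ * l * n = (n⁻¹ * a * n)⁻¹ * (n⁻¹ * (a * l) * n) := by group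
      rw [e]
      exact mul_mem (inv_mem (hUB (hRU (hconjR a ha)))) hcu
    -- `h⁻¹ l h ∈ U ∩ L_J`
    have hHL := diagonalSubgroup_le_normalizer (F := F) hG (P := h1_InLev D J)
      (fun r hr => hr.1.1)
    have hl' : h⁻¹ * l * h ∈ Subgroup.closure (rootGen D F (h1_InLev D J)) := by
      have := (Subgroup.mem_set_normalizer_iff.mp (inv_mem (hHL hh)) l).mp hl
      rwa [inv_inv] at this
    have hV := h1_conj_lev_mem_neg hG hT hw' hnegAll hl'
    have e1 : (nWordGL hG w)⁻¹ * (h⁻¹ * l * h) * nWordGL hG w = n⁻¹ * l * n := by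
      rw [hn]; group
    rw [e1] at hV
    have h1 : n⁻¹ * l * n ∈ D.borelSubgroup F ⊓ D.negUnipotent F := ⟨hcl, hV⟩
    rw [borel_inf_negUnipotent hG hT, Subgroup.mem_bot] at h1
    have hl1 : l = 1 := by
      have e2 : l = n * (n⁻¹ * l * n) * n⁻¹ := by group
      rw [e2, h1]; group
    rw [hl1, mul_one]
    exact mul_mem (Subgroup.mem_sup_left ha) (Subgroup.mem_sup_right ht)
  · intro hb
    have hb' : b ∈ (D.unipotentRadical F J : Set (GL D.Idx F)) *
        (D.diagonalSubgroup F : Set (GL D.Idx F)) := by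
      rw [← hmulBJ]; exact hb
    obtain ⟨a, ha, t, ht, rfl⟩ := hb'
    have ha : a ∈ D.unipotentRadical F J := ha
    have ht : t ∈ D.diagonalSubgroup F := ht
    refine ⟨mul_mem (hUB (hRU ha)) (hHB ht), ?_⟩
    have e : n⁻¹ * (a * t) * n = (n⁻¹ * a * n) * (n⁻¹ * t * n) := by group
    rw [e]
    exact mul_mem (hUB (hRU (hconjR a ha))) (hHB (hconjH t ht))

end

end Cfsg.Agent.ChevUni
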