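import Mathlib
import Cfsg.Agent.UnipC.H1_RelSum
import Cfsg.Agent.Lead.SteinChevD

set_option autoImplicit false

/-!
# Steinberg's count of the unipotent elements of a Chevalley group: the final assembly (helper1)

Hypothesis `h`: for every `J`, the relative Steinberg character of the parabolic subgroup `P_J`
(a class function on the group `↥P_J`) sums to `q^N` over the `p`-elements of `P_J`.  Given this
for every `J`, the count of the `p`-elements of the whole group follows by the formal inversion of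
`UnipC/H1_Count` and the degree of the Steinberg character.  The parabolic subgroups enter through
an arbitrary family `par` agreeing with `D.parabolicIn F` on the subsets of `range D.rank`.
-/

namespace Cfsg.Agent.ChevUni

open Cfsg Cfsg.Lie Matrix Cfsg.Agent.Helper7.Chev Cfsg.Agent.Lead.SteinChar
  Cfsg.Agent.Lead.SteinChev Cfsg.Agent.UnipC

universe u

theorem h1_parabolicIn_mono {F : Type u} [Field F] (D : ChevalleyDatum) {K J : Finset ℕ}
    (h : K ⊆ J) : D.parabolicIn F K ≤ D.parabolicIn F J := by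
  unfold ChevalleyDatum.parabolicIn
  apply Subgroup.comap_mono
  unfold ChevalleyDatum.parabolicSubgroup
  apply sup_le_sup_left
  apply Subgroup.closure_mono
  rintro g ⟨j, hj, hj', hg⟩
  exact ⟨j, by exact_mod_cast h (by exact_mod_cast hj), hj', hg⟩

theorem h1_parabolicIn_top {F : Type u} [Field F] [Fintype F] (D : ChevalleyDatum)
    (hD : D ∈ [chevG2, chevB2, chevD4, chevF4, chevE6, chevE7, chevE8]) :
    D.parabolicIn F (Finset.range D.rank) = ⊤ := by
  have hG := good3_of_mem D hD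
  have hT := T0_of_mem D hD
  have h5 := T5_of_mem D hD
  have h6 := T6_of_mem D hD
  have h8 := T8_of_mem D hD
  have h9 := T9_of_mem D hD
  obtain ⟨P, hPB, -, hPS⟩ := exists_bnPair (F := F) hG.toGood2 hT hG.t3 hG.t4 h5 h6 h8 h9
  have himg : sRep hG.toGood2 F '' ((Finset.range D.rank : Finset ℕ) : Set ℕ) = P.S := by
    rw [hPS]
    exact image_sRep hG.toGood2
  rw [parabolicIn_eq hG.toGood2 P.B hPB _ (Finset.Subset.refl _), himg, eq_top_iff, ← P.sup_eq_top,
    ← P.closure_sup]
  refine sup_le le_sup_left (sup_le le_sup_right (inf_le_left.trans le_sup_left))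

theorem h1_final {F : Type u} [Field F] [Fintype F] (p : ℕ) [Fact p.Prime] [CharP F p]
    (D : ChevalleyDatum) (hD : D ∈ [chevG2, chevB2, chevD4, chevF4, chevE6, chevE7, chevE8])
    (par : Finset ℕ → Subgroup ↥(D.group F))
    (hpar : ∀ J, J ⊆ Finset.range D.rank → D.parabolicIn F J = par J)
    (h : ∀ J, J ⊆ Finset.range D.rank → ∀ 𝒱 : Finset ↥(par J),
      (∀ v, v ∈ 𝒱 ↔ ∃ k : ℕ, orderOf v = p ^ k) →
      ∑ v ∈ 𝒱, ∑ K ∈ J.powerset, (-1 : ℂ) ^ K.card *
        Cfsg.fixedPointCharacter ((par K).subgroupOf (par J)) v =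
      (Fintype.card F : ℂ) ^ (D.nroots / 2)) :
    Nat.card {g : ↥(D.group F) // ∃ k : ℕ, orderOf g = p ^ k} =
      Fintype.card F ^ (2 * (D.nroots / 2)) := by
  classical
  let _ : Fintype ↥(D.group F) := Fintype.ofFinite _
  set 𝒰 : Finset ↥(D.group F) := Finset.univ.filter (fun g => ∃ k : ℕ, orderOf g = p ^ k) with h𝒰
  have hinv : ∀ v ∈ 𝒰, ∀ x : ↥(D.group F), x * v * x⁻¹ ∈ 𝒰 := by
    intro v hv x
    rw [h𝒰, Finset.mem_filter] at hv ⊢
    refine ⟨Finset.mem_univ _, ?_⟩
    have hsc : SemiconjBy x v (x * v * x⁻¹) := by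
      unfold SemiconjBy
      group
    rw [← hsc.orderOf_eq]
    exact hv.2
  have hmono : ∀ K J : Finset ℕ, K ⊆ J → J ⊆ Finset.range D.rank → par K ≤ par J := by
    intro K J hKJ hJ
    rw [← hpar J hJ, ← hpar K (hKJ.trans hJ)]
    exact h1_parabolicIn_mono D hKJ
  have htop : par (Finset.range D.rank) = ⊤ := by
    rw [← hpar _ (Finset.Subset.refl _)]
    exact h1_parabolicIn_top D hD
  have hrel : ∀ J, J ⊆ Finset.range D.rank →
      ∑ K ∈ J.powerset, (-1 : ℂ) ^ K.card *
        ((((par K).relIndex (par J) : ℕ) : ℂ)) *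
        (((𝒰.filter (fun g => g ∈ par K)).card : ℕ) : ℂ) =
      (Fintype.card F : ℂ) ^ (D.nroots / 2) := by
    intro J hJ
    let _ : Fintype ↥(par J) := Fintype.ofFinite _
    set 𝒱 : Finset ↥(par J) :=
      Finset.univ.filter (fun v => (v : ↥(D.group F)) ∈ 𝒰) with h𝒱def
    have h𝒱 : ∀ v : ↥(par J), v ∈ 𝒱 ↔ (v : ↥(D.group F)) ∈ 𝒰 := by
      intro v
      rw [h𝒱def, Finset.mem_filter]
      exact ⟨fun h => h.2, fun h => ⟨Finset.mem_univ _, h⟩⟩
    rw [← h1_rel_sum (Finset.range D.rank) par hmono 𝒰 hinv J hJ 𝒱 h𝒱]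
    refine h J hJ 𝒱 ?_
    intro v
    rw [h𝒱, h𝒰, Finset.mem_filter, Subgroup.orderOf_coe]
    exact ⟨fun h => h.2, fun h => ⟨Finset.mem_univ _, h⟩⟩
  have key := h1_unip_count (Finset.range D.rank) par hmono htop 𝒰 _ hrel
  have hst : ∑ K ∈ (Finset.range D.rank).powerset,
      (-1 : ℂ) ^ K.card * (((par K).index : ℕ) : ℂ) =
      (Fintype.card F : ℂ) ^ (D.nroots / 2) := by
    rw [← steinberg_one D hD]
    unfold ChevalleyDatum.steinbergCharacter
    apply Finset.sum_congr rfl
    intro K hK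
    rw [fixedPointCharacter_one, hpar K (Finset.mem_powerset.mp hK)]
  rw [hst] at key
  have hcard : Nat.card {g : ↥(D.group F) // ∃ k : ℕ, orderOf g = p ^ k} = 𝒰.card := by
    rw [Nat.card_eq_fintype_card, Fintype.card_subtype]
  rw [hcard]
  have : ((𝒰.card : ℕ) : ℂ) = ((Fintype.card F ^ (2 * (D.nroots / 2)) : ℕ) : ℂ) := by
    rw [key]
    push_cast
    ring
  exact_mod_cast this

end Cfsg.Agent.ChevUni
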