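import Mathlib
import Cfsg.Agent.Helper7.ChevBN

set_option autoImplicit false

/-!
# Elements of `⟨n_j : j ∈ J⟩ H` as words, and the sign of a root from a double coset (helper1)
-/

namespace Cfsg.Agent.ChevUni

open Cfsg Cfsg.Lie Matrix DoubleCoset Cfsg.Agent.Helper7.Chev

variable {D : ChevalleyDatum} {F : Type*} [Field F]

/-- The generators `n_j`, `j ∈ J`, of the Weyl group of `P_J`. -/
def h1_simpleGen (D : ChevalleyDatum) (F : Type*) [Field F] (J : Set ℕ) : Set (GL D.Idx F) :=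
  {g | ∃ j ∈ J, j < D.rank ∧ (g : Matrix D.Idx D.Idx F) = D.nMat F (D.simple j) 1}

/-- The products of an element of `H` and a word in the `n_j`, `j ∈ J`. -/
def h1_nWordsJ (hG : Good2 D) (F : Type*) [Field F] (J : Set ℕ) : Set (GL D.Idx F) :=
  {g | ∃ h ∈ D.diagonalSubgroup F, ∃ w : List ℕ, (∀ i ∈ w, i < D.rank ∧ i ∈ J) ∧
    g = h * nWordGL hG w}

section

variable (hG : Good2 D) (J : Set ℕ)

theorem h1_diagonal_mem_nWordsJ {h : GL D.Idx F} (hh : h ∈ D.diagonalSubgroup F) :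
    h ∈ h1_nWordsJ hG F J :=
  ⟨h, hh, [], by simp, by rw [nWordGL_nil, mul_one]⟩

theorem h1_nWordsJ_mul {g₁ g₂ : GL D.Idx F} (h₁ : g₁ ∈ h1_nWordsJ hG F J)
    (h₂ : g₂ ∈ h1_nWordsJ hG F J) : g₁ * g₂ ∈ h1_nWordsJ hG F J := by
  obtain ⟨a₁, ha₁, w₁, hw₁, rfl⟩ := h₁
  obtain ⟨a₂, ha₂, w₂, hw₂, rfl⟩ := h₂
  refine ⟨a₁ * (nWordGL hG w₁ * a₂ * (nWordGL hG w₁)⁻¹), ?_, w₁ ++ w₂, ?_, ?_⟩
  · exact mul_mem ha₁ (conj_mem_diagonal (nWordGL_mem_normalizer hG w₁) ha₂)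
  · intro i hi
    rcases List.mem_append.mp hi with h | h
    · exact hw₁ i h
    · exact hw₂ i h
  · rw [nWordGL_append]; group

theorem h1_nGL_mem_nWordsJ {i : ℕ} (hi : i < D.rank) (hiJ : i ∈ J) :
    (nGL hG.toGood1 (hG.toGood1.simple_lt hi) : GL D.Idx F) ∈ h1_nWordsJ hG F J := by
  refine ⟨1, one_mem _, [i], ?_, ?_⟩
  · intro j hj
    rw [List.mem_singleton] at hj
    rw [hj]; exact ⟨hi, hiJ⟩
  · rw [nWordGL_cons hG hi, nWordGL_nil, mul_one, one_mul]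

theorem h1_nGL_inv_mem_nWordsJ {i : ℕ} (hi : i < D.rank) (hiJ : i ∈ J) :
    ((nGL hG.toGood1 (hG.toGood1.simple_lt hi))⁻¹ : GL D.Idx F) ∈ h1_nWordsJ hG F J := by
  set n : GL D.Idx F := nGL hG.toGood1 (hG.toGood1.simple_lt hi) with hn
  have e : n⁻¹ = (n * n)⁻¹ * n := by group
  rw [e]
  exact h1_nWordsJ_mul hG J (h1_diagonal_mem_nWordsJ hG J (inv_mem (nGL_sq_mem hG _)))
    (h1_nGL_mem_nWordsJ hG J hi hiJ)

theorem h1_nWordGL_inv_mem_nWordsJ {w : List ℕ} (hw : ∀ i ∈ w, i < D.rank ∧ i ∈ J) :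
    ((nWordGL hG w)⁻¹ : GL D.Idx F) ∈ h1_nWordsJ hG F J := by
  induction w with
  | nil =>
    rw [nWordGL_nil, inv_one]
    exact h1_diagonal_mem_nWordsJ hG J (one_mem _)
  | cons i w ih =>
    have hi := hw i (List.mem_cons_self)
    have hw' : ∀ j ∈ w, j < D.rank ∧ j ∈ J := fun j hj => hw j (List.mem_cons_of_mem _ hj)
    rw [nWordGL_cons hG hi.1, _root_.mul_inv_rev]
    exact h1_nWordsJ_mul hG J (ih hw') (h1_nGL_inv_mem_nWordsJ hG J hi.1 hi.2)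

theorem h1_nWordsJ_inv {g : GL D.Idx F} (hg : g ∈ h1_nWordsJ hG F J) :
    g⁻¹ ∈ h1_nWordsJ hG F J := by
  obtain ⟨a, ha, w, hw, rfl⟩ := hg
  rw [_root_.mul_inv_rev]
  exact h1_nWordsJ_mul hG J (h1_nWordGL_inv_mem_nWordsJ hG J hw)
    (h1_diagonal_mem_nWordsJ hG J (inv_mem ha))

/-- `H ⟨n_j : j ∈ J⟩` as a subgroup. -/
def h1_nWordsJSubgroup (hG : Good2 D) (F : Type*) [Field F] (J : Set ℕ) :
    Subgroup (GL D.Idx F) where
  carrier := h1_nWordsJ hG F J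
  mul_mem' := h1_nWordsJ_mul hG J
  one_mem' := h1_diagonal_mem_nWordsJ hG J (one_mem _)
  inv_mem' := h1_nWordsJ_inv hG J

/-- An element of `⟨n_j : j ∈ J⟩ H` is `h * (word in the n_j, j ∈ J)`. -/
theorem h1_mem_nWordsJ {g : GL D.Idx F}
    (hg : g ∈ Subgroup.closure (h1_simpleGen D F J) ⊔ D.diagonalSubgroup F) :
    ∃ h ∈ D.diagonalSubgroup F, ∃ w : List ℕ, (∀ i ∈ w, i < D.rank ∧ i ∈ J) ∧
      g = h * nWordGL hG w := by
  have hle : Subgroup.closure (h1_simpleGen D F J) ⊔ D.diagonalSubgroup F ≤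
      h1_nWordsJSubgroup hG F J := by
    apply sup_le
    · rw [Subgroup.closure_le]
      rintro x ⟨j, hjJ, hj, hx⟩
      have hx' : x = nGL hG.toGood1 (hG.toGood1.simple_lt hj) :=
        Units.ext (hx.trans (nGL_coe hG.toGood1 (hG.toGood1.simple_lt hj)).symm)
      rw [hx']
      exact h1_nGL_mem_nWordsJ hG J hj hjJ
    · intro x hx
      exact h1_diagonal_mem_nWordsJ hG J hx
  exact hle hg

end

section sign

variable (hG : Good2 D) (hT : T0 D) (h3 : (tabOf D).T3) (h4 : (tabOf D).T4 60)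
  (h5 : (tabOf D).T5) (h6 : (tabOf D).T6)

include hG hT h3 h4 h5 h6 in
/-- If `n_i B n ⊄ B n_i n B` then `n⁻¹` makes the `i`-th fundamental root negative. -/
theorem h1_neg_of_not_mem_doubleCoset {i : ℕ} (hi : i < D.rank) {h : GL D.Idx F}
    (hh : h ∈ D.diagonalSubgroup F) {w : List ℕ} (hw : ∀ j ∈ w, j < D.rank)
    (hex : ∃ b ∈ D.borelSubgroup F,
      nGL hG.toGood1 (hG.toGood1.simple_lt hi) * b * (h * nWordGL hG w) ∉
        doubleCoset (nGL hG.toGood1 (hG.toGood1.simple_lt hi) * (h * nWordGL hG w))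
          (D.borelSubgroup F : Set (GL D.Idx F)) (D.borelSubgroup F)) :
    (tabOf D).reflWord w.reverse (D.simple i) < D.nroots / 2 := by
  by_contra hcon
  rw [not_lt] at hcon
  obtain ⟨b, hb, hnot⟩ := hex
  exact hnot (mul_mem_doubleCoset_of_pos hG hT h3 h4 h5 h6 hi hh hw hcon hb)

end sign

end Cfsg.Agent.ChevUni
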