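import Mathlib
import Cfsg.Agent.Helper7.BNIndex

set_option autoImplicit false

/-!
# The (B, N)-pair of a standard parabolic subgroup (lead)

For a (B, N)-pair `P` of `G` and `J ⊆ P.S`, the subgroup `P.parabolic J` (as a group of its own) has
the (B, N)-pair `B`, `N' = ⟨J⟩ (B ∩ N)`, `S' = J`.
-/

namespace Cfsg.Agent.ChevUni

open Cfsg.Agent.Helper7.BN DoubleCoset

variable {G : Type*} [Group G] (P : Cfsg.BNPair G)

/-- `⟨J⟩ (B ∩ N)`, as a subgroup of `G`. -/
def l_NJ (J : Set G) : Subgroup G := Subgroup.closure J ⊔ (P.B ⊓ P.N)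

theorem l_NJ_le_N {J : Set G} (hJ : J ⊆ P.S) : l_NJ P J ≤ P.N := by
  apply sup_le
  · rw [Subgroup.closure_le]
    exact fun s hs => P.subset (hJ hs)
  · exact inf_le_right

theorem l_NJ_le_par (J : Set G) : l_NJ P J ≤ P.parabolic J := by
  apply sup_le
  · exact le_sup_right
  · exact le_trans inf_le_left le_sup_left

theorem l_B_le_par (J : Set G) : P.B ≤ P.parabolic J := le_sup_left

theorem l_T_le_NJ (J : Set G) : P.B ⊓ P.N ≤ l_NJ P J := le_sup_right

theorem l_closure_le_NJ (J : Set G) : Subgroup.closure J ≤ l_NJ P J := le_sup_left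

theorem l_B_inf_NJ {J : Set G} (hJ : J ⊆ P.S) : P.B ⊓ l_NJ P J = P.B ⊓ P.N := by
  apply le_antisymm
  · exact le_inf inf_le_left (le_trans inf_le_right (l_NJ_le_N P hJ))
  · exact le_inf inf_le_left (l_T_le_NJ P J)

/-- The (B, N)-pair of the parabolic subgroup `P.parabolic J`. -/
def l_parBN (J : Set G) (hJ : J ⊆ P.S) : Cfsg.BNPair ↥(P.parabolic J) where
  B := P.B.subgroupOf (P.parabolic J)
  N := (l_NJ P J).subgroupOf (P.parabolic J)
  S := {x | (x : G) ∈ J}
  sup_eq_top := by
    rw [← Subgroup.subgroupOf_sup (l_B_le_par P J) (l_NJ_le_par P J), Subgroup.subgroupOf_eq_top]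
    apply sup_le
    · exact le_sup_left
    · exact le_trans (l_closure_le_NJ P J) le_sup_right
  conj_mem := by
    intro n hn t ht
    rw [Subgroup.mem_subgroupOf] at hn
    rw [Subgroup.mem_inf, Subgroup.mem_subgroupOf, Subgroup.mem_subgroupOf] at ht
    rw [Subgroup.mem_subgroupOf]
    have h1 : (t : G) ∈ P.B ⊓ P.N := ⟨ht.1, l_NJ_le_N P hJ ht.2⟩
    have := P.conj_mem (n : G) (l_NJ_le_N P hJ hn) (t : G) h1
    simpa using this
  subset := by
    intro x hx
    rw [SetLike.mem_coe, Subgroup.mem_subgroupOf]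
    exact l_closure_le_NJ P J (Subgroup.subset_closure hx)
  sq_mem := by
    intro x hx
    rw [Subgroup.mem_subgroupOf]
    have := P.sq_mem (x : G) (hJ hx)
    simpa using this
  inj := by
    intro x hx y hy h
    rw [Subgroup.mem_subgroupOf] at h
    apply Subtype.ext
    apply P.inj (x : G) (hJ hx) (y : G) (hJ hy)
    simpa using h
  closure_sup := by
    apply Subgroup.map_injective (Subgroup.subtype_injective (P.parabolic J))
    rw [Subgroup.map_sup, MonoidHom.map_closure, Subgroup.map_subgroupOf_eq_of_le (l_NJ_le_par P J)]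
    have h1 : (P.parabolic J).subtype '' {x : ↥(P.parabolic J) | (x : G) ∈ J} = J := by
      ext g
      constructor
      · rintro ⟨x, hx, rfl⟩
        exact hx
      · intro hg
        exact ⟨⟨g, (le_sup_right : Subgroup.closure J ≤ P.parabolic J) (Subgroup.subset_closure hg)⟩,
          hg, rfl⟩
    rw [h1]
    have h2 : (P.B.subgroupOf (P.parabolic J) ⊓ (l_NJ P J).subgroupOf (P.parabolic J)).map
        (P.parabolic J).subtype = P.B ⊓ P.N := by
      have h3 : P.B.subgroupOf (P.parabolic J) ⊓ (l_NJ P J).subgroupOf (P.parabolic J) =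
          (P.B ⊓ l_NJ P J).subgroupOf (P.parabolic J) := (Subgroup.comap_inf _ _ _).symm
      rw [h3, Subgroup.map_subgroupOf_eq_of_le
        (le_trans inf_le_left (l_B_le_par P J)), l_B_inf_NJ P hJ]
    rw [h2]
    rfl
  mul_mem_union := by
    intro x hx n hn b hb
    rw [Subgroup.mem_subgroupOf] at hn hb
    have := P.mul_mem_union (x : G) (hJ hx) (n : G) (l_NJ_le_N P hJ hn) (b : G) hb
    rcases this with h | h
    · left
      rw [mem_doubleCoset] at h ⊢
      obtain ⟨b1, hb1, b2, hb2, e⟩ := h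
      refine ⟨⟨b1, l_B_le_par P J hb1⟩, ?_, ⟨b2, l_B_le_par P J hb2⟩, ?_, ?_⟩
      · exact hb1
      · exact hb2
      · apply Subtype.ext
        simpa using e
    · right
      rw [mem_doubleCoset] at h ⊢
      obtain ⟨b1, hb1, b2, hb2, e⟩ := h
      refine ⟨⟨b1, l_B_le_par P J hb1⟩, ?_, ⟨b2, l_B_le_par P J hb2⟩, ?_, ?_⟩
      · exact hb1
      · exact hb2
      · apply Subtype.ext
        simpa using e
  conj_ne := by
    intro x hx heq
    apply P.conj_ne (x : G) (hJ hx)
    ext g
    constructor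
    · rintro ⟨b, hb, rfl⟩
      have h1 : (fun c : ↥(P.parabolic J) => x * c * x) ⟨b, l_B_le_par P J hb⟩ ∈
          (fun c : ↥(P.parabolic J) => x * c * x) '' (P.B.subgroupOf (P.parabolic J) : Set _) :=
        ⟨_, hb, rfl⟩
      rw [heq] at h1
      exact h1
    · intro hg
      have h1 : (⟨g, l_B_le_par P J hg⟩ : ↥(P.parabolic J)) ∈
          (P.B.subgroupOf (P.parabolic J) : Set _) := hg
      rw [← heq] at h1
      obtain ⟨c, hc, e⟩ := h1
      refine ⟨(c : G), hc, ?_⟩
      have := congrArg Subtype.val e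
      simpa using this

theorem l_parBN_B (J : Set G) (hJ : J ⊆ P.S) :
    (l_parBN P J hJ).B = P.B.subgroupOf (P.parabolic J) := rfl

theorem l_parBN_N (J : Set G) (hJ : J ⊆ P.S) :
    (l_parBN P J hJ).N = (l_NJ P J).subgroupOf (P.parabolic J) := rfl

theorem l_parBN_S (J : Set G) (hJ : J ⊆ P.S) :
    (l_parBN P J hJ).S = {x : ↥(P.parabolic J) | (x : G) ∈ J} := rfl

end Cfsg.Agent.ChevUni
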