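import Mathlib
import Cfsg.Agent.ChevUni.L_ParBN
import Cfsg.Agent.Lead.SteinCharE

set_option autoImplicit false

/-!
# The Steinberg character of a standard parabolic subgroup (lead)

For a finite group `G` with a (B, N)-pair `P` and a set `K` of indices of distinguished generators,
the alternating sum `χ_K` of the permutation characters of `H = P_K` on the cosets of the `P_L`,
`L ⊆ K`, is an irreducible character of `H`; there is a `w0` in the Weyl group of `H` that no
generator lengthens, and `χ_K` restricted to `B` is the permutation character on the cosets of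
`{b ∈ B | (rep w0)⁻¹ b (rep w0) ∈ B}`.
-/

namespace Cfsg.Agent.ChevUni

open Cfsg Cfsg.Agent.Helper7.BN Cfsg.Agent.Lead.SteinChar Cfsg.Agent.Lead.SteinBN

universe u

variable {G : Type u} [Group G] (P : Cfsg.BNPair G)
variable {ι : Type*} [DecidableEq ι] {I : Finset ι} {s : ι → G}

/-- The set of generators attached to a set of indices. -/
def l_J (s : ι → G) (K : Finset ι) : Set G := s '' (K : Set ι)

theorem l_J_subset (himg : s '' (I : Set ι) = P.S) {K : Finset ι} (hK : K ⊆ I) :
    l_J s K ⊆ P.S := by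
  rw [← himg]
  exact Set.image_mono (Finset.coe_subset.mpr hK)

/-- The parabolic subgroup `P_K`. -/
abbrev l_H (s : ι → G) (K : Finset ι) : Subgroup G := P.parabolic (l_J s K)

open Classical in
/-- The generators, seen in `P_K`. -/
noncomputable def l_s (s : ι → G) (K : Finset ι) : ι → ↥(l_H P s K) :=
  fun i => if h : s i ∈ l_H P s K then ⟨s i, h⟩ else 1

theorem l_s_coe {K : Finset ι} {i : ι} (hi : i ∈ K) : ((l_s P s K i : ↥(l_H P s K)) : G) = s i := by
  have h : s i ∈ l_H P s K :=
    (le_sup_right : Subgroup.closure (l_J s K) ≤ _) (Subgroup.subset_closure ⟨i, hi, rfl⟩)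
  unfold l_s
  rw [dif_pos h]

/-- The (B, N)-pair of `P_K`. -/
def l_P' (himg : s '' (I : Set ι) = P.S) {K : Finset ι} (hK : K ⊆ I) :
    Cfsg.BNPair ↥(l_H P s K) :=
  l_parBN P (l_J s K) (l_J_subset P himg hK)

theorem l_himg' (himg : s '' (I : Set ι) = P.S) {K : Finset ι} (hK : K ⊆ I) :
    l_s P s K '' (K : Set ι) = (l_P' P himg hK).S := by
  ext x
  constructor
  · rintro ⟨i, hi, rfl⟩
    change ((l_s P s K i : ↥(l_H P s K)) : G) ∈ l_J s K
    rw [l_s_coe P hi]
    exact ⟨i, hi, rfl⟩
  · intro hx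
    obtain ⟨i, hi, e⟩ : (x : G) ∈ l_J s K := hx
    refine ⟨i, hi, ?_⟩
    apply Subtype.ext
    rw [l_s_coe P hi, e]

/-- The parabolic subgroups of `P_K`. -/
noncomputable def l_par (himg : s '' (I : Set ι) = P.S) {K : Finset ι} (hK : K ⊆ I) :
    Finset ι → Subgroup ↥(l_H P s K) :=
  fun L => (l_P' P himg hK).parabolic (l_s P s K '' (L : Set ι))

/-- The parabolic subgroups of `P_K` are the `P_L`, `L ⊆ K`. -/
theorem l_par_eq (himg : s '' (I : Set ι) = P.S) {K : Finset ι} (hK : K ⊆ I) {L : Finset ι}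
    (hL : L ⊆ K) :
    l_par P himg hK L = (P.parabolic (l_J s L)).subgroupOf (l_H P s K) := by
  have hle : P.parabolic (l_J s L) ≤ l_H P s K :=
    parabolic_mono P (Set.image_mono (Finset.coe_subset.mpr hL))
  apply Subgroup.map_injective (Subgroup.subtype_injective (l_H P s K))
  rw [Subgroup.map_subgroupOf_eq_of_le hle]
  unfold l_par Cfsg.BNPair.parabolic
  rw [Subgroup.map_sup, MonoidHom.map_closure]
  have h1 : (l_P' P himg hK).B.map (l_H P s K).subtype = P.B :=
    Subgroup.map_subgroupOf_eq_of_le (l_B_le_par P _)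
  have h2 : (l_H P s K).subtype '' (l_s P s K '' (L : Set ι)) = l_J s L := by
    ext g
    constructor
    · rintro ⟨_, ⟨i, hi, rfl⟩, rfl⟩
      refine ⟨i, hi, ?_⟩
      exact (l_s_coe P (hL hi)).symm
    · rintro ⟨i, hi, rfl⟩
      exact ⟨_, ⟨i, hi, rfl⟩, l_s_coe P (hL hi)⟩
  rw [h1, h2]

variable [Fintype G]

/-- The Steinberg character of `P_K`. -/
noncomputable def l_chi (himg : s '' (I : Set ι) = P.S) {K : Finset ι} (hK : K ⊆ I) :
    ↥(l_H P s K) → ℂ :=
  St K (l_par P himg hK)

theorem l_chi_apply (himg : s '' (I : Set ι) = P.S) {K : Finset ι} (hK : K ⊆ I)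
    (x : ↥(l_H P s K)) :
    l_chi P himg hK x = ∑ L ∈ K.powerset, (-1 : ℂ) ^ L.card *
      Cfsg.fixedPointCharacter ((P.parabolic (l_J s L)).subgroupOf (l_H P s K)) x := by
  unfold l_chi St
  apply Finset.sum_congr rfl
  intro L hL
  rw [l_par_eq P himg hK (Finset.mem_powerset.mp hL)]

/-- The Steinberg character of `P_K` is irreducible. -/
theorem l_chi_irr (himg : s '' (I : Set ι) = P.S) {K : Finset ι} (hK : K ⊆ I) :
    Cfsg.IsIrrCharacter ↥(l_H P s K) (l_chi P himg hK) := by
  haveI : Fintype ↥(l_H P s K) := Fintype.ofFinite _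
  exact isIrrCharacter_St (l_P' P himg hK) (l_himg' P himg hK) (fun _ _ => rfl)

/-- The longest element of the Weyl group of `P_K`, and the restriction of the Steinberg character
of `P_K` to `B`. -/
theorem l_chi_B (himg : s '' (I : Set ι) = P.S) {K : Finset ι} (hK : K ⊆ I) :
    ∃ w0 : W (l_P' P himg hK),
      (∀ i ∈ K, ¬ Good (l_P' P himg hK) (rr (l_P' P himg hK) (l_s P s K) i) w0) ∧
      w0⁻¹ = w0 ∧
      ∀ b : (l_P' P himg hK).B,
        l_chi P himg hK (b : ↥(l_H P s K)) =
          Cfsg.fixedPointCharacter (stab (l_P' P himg hK) w0) b := by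
  haveI : Fintype ↥(l_H P s K) := Fintype.ofFinite _
  obtain ⟨w0, hL, hR, huniq⟩ :=
    exists_longest (I := K) (s := l_s P s K) (l_P' P himg hK) (l_himg' P himg hK)
  refine ⟨w0, ?_, ?_, ?_⟩
  · intro i hi hgood
    have hr := rr_mem_RS (l_P' P himg hK) (l_himg' P himg hK) hi
    have h1 := (good_iff (l_P' P himg hK) hr).mp hgood
    have h2 : i ∈ ascL (l_P' P himg hK) K (l_s P s K) w0 := by
      unfold ascL
      rw [Finset.mem_filter]
      exact ⟨hi, h1⟩
    rw [hL] at h2
    exact absurd h2 (Finset.notMem_empty i)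
  · apply huniq
    unfold ascR
    rw [Finset.filter_eq_empty_iff]
    intro i hi hlt
    have hr := rr_mem_RS (l_P' P himg hK) (l_himg' P himg hK) hi
    have e : w0⁻¹ * rr (l_P' P himg hK) (l_s P s K) i =
        (rr (l_P' P himg hK) (l_s P s K) i * w0)⁻¹ := by
      rw [mul_inv_rev, RS_inv (l_P' P himg hK) hr]
    rw [e, Cfsg.Agent.Helper7.InvWords.len_inv (invol_RS (l_P' P himg hK))
        (mem_closure_RS (l_P' P himg hK) _),
      Cfsg.Agent.Helper7.InvWords.len_inv (invol_RS (l_P' P himg hK))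
        (mem_closure_RS (l_P' P himg hK) _)] at hlt
    have h2 : i ∈ ascL (l_P' P himg hK) K (l_s P s K) w0 := by
      unfold ascL
      rw [Finset.mem_filter]
      exact ⟨hi, hlt⟩
    rw [hL] at h2
    exact absurd h2 (Finset.notMem_empty i)
  · intro b
    exact St_apply_B (l_P' P himg hK) (l_himg' P himg hK) (fun _ _ => rfl) hR huniq b

end Cfsg.Agent.ChevUni
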