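import Mathlib
import Cfsg.Agent.ChevUni.L_ParSt

set_option autoImplicit false

/-!
# The Steinberg character of a parabolic subgroup: the interface at the level of `G` (lead)

`l_main`: for `K ⊆ I` there is `n0 ∈ ⟨J⟩ (B ∩ N)` (`J = s '' K`) with `n0 * n0 ∈ B`, such that for
every `i ∈ K` the product `s i * B * n0` is NOT inside the double coset `B (s i * n0) B`, and the
Steinberg character of `P_K` restricted to `B` is the permutation character on the cosets of
`{b ∈ B | n0⁻¹ b n0 ∈ B}`.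
-/

namespace Cfsg.Agent.ChevUni

open Cfsg Cfsg.Agent.Helper7.BN Cfsg.Agent.Lead.SteinChar Cfsg.Agent.Lead.SteinBN

universe u

variable {G : Type u} [Group G] (P : Cfsg.BNPair G)

/-- Double cosets of `B` in a parabolic subgroup are double cosets in `G`. -/
theorem l_C_iff (J : Set G) (hJ : J ⊆ P.S) (g x : ↥(P.parabolic J)) :
    x ∈ C (l_parBN P J hJ) g ↔ (x : G) ∈ C P (g : G) := by
  rw [mem_C, mem_C]
  constructor
  · rintro ⟨b1, hb1, b2, hb2, rfl⟩
    exact ⟨(b1 : G), hb1, (b2 : G), hb2, by simp⟩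
  · rintro ⟨b1, hb1, b2, hb2, e⟩
    refine ⟨⟨b1, l_B_le_par P J hb1⟩, hb1, ⟨b2, l_B_le_par P J hb2⟩, hb2, ?_⟩
    apply Subtype.ext
    simpa using e

variable {ι : Type*} [DecidableEq ι] {I : Finset ι} {s : ι → G} [Fintype G]

/-- The interface: the longest element of the Weyl group of `P_K` through a representative in `G`. -/
theorem l_main (himg : s '' (I : Set ι) = P.S) {K : Finset ι} (hK : K ⊆ I) :
    ∃ n0 : G, n0 ∈ l_NJ P (l_J s K) ∧ n0 * n0 ∈ P.B ∧
      (∀ i ∈ K, ∃ b ∈ P.B, s i * b * n0 ∉ C P (s i * n0)) ∧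
      ∃ Q : Subgroup (l_P' P himg hK).B,
        (∀ b : (l_P' P himg hK).B, b ∈ Q ↔
          n0⁻¹ * ((b : ↥(l_H P s K)) : G) * n0 ∈ P.B) ∧
        ∀ b : (l_P' P himg hK).B,
          l_chi P himg hK (b : ↥(l_H P s K)) = Cfsg.fixedPointCharacter Q b := by
  obtain ⟨w0, hng, hinv, hval⟩ := l_chi_B P himg hK
  have hproj : proj (l_P' P himg hK) (Quotient.out w0 : (l_P' P himg hK).N) = w0 :=
    Quotient.out_eq w0
  refine ⟨(((Quotient.out w0 : (l_P' P himg hK).N) : ↥(l_H P s K)) : G), ?_, ?_, ?_,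
    stab (l_P' P himg hK) w0, ?_, hval⟩
  · exact (Quotient.out w0 : (l_P' P himg hK).N).2
  · have h1 : proj (l_P' P himg hK) (Quotient.out w0 : (l_P' P himg hK).N)⁻¹ =
        proj (l_P' P himg hK) (Quotient.out w0 : (l_P' P himg hK).N) := by
      rw [map_inv, hproj, hinv]
    rw [proj_eq_iff] at h1
    have h2 : ((((Quotient.out w0 : (l_P' P himg hK).N)⁻¹ : (l_P' P himg hK).N) :
        ↥(l_H P s K))⁻¹ * ((Quotient.out w0 : (l_P' P himg hK).N) : ↥(l_H P s K)) :
        ↥(l_H P s K)) ∈ P.B.subgroupOf (l_H P s K) := h1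
    rw [Subgroup.mem_subgroupOf] at h2
    simpa using h2
  · intro i hi
    by_contra hcon
    push_neg at hcon
    apply hng i hi
    have hsN : l_s P s K i ∈ (l_P' P himg hK).N := by
      apply (l_P' P himg hK).subset
      rw [← l_himg' P himg hK]
      exact ⟨i, hi, rfl⟩
    rw [rr_eq (l_P' P himg hK) hsN]
    have hgoal : Good (l_P' P himg hK) (proj (l_P' P himg hK) ⟨l_s P s K i, hsN⟩)
        (proj (l_P' P himg hK) (Quotient.out w0 : (l_P' P himg hK).N)) := by
      apply good_of_rep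
      intro b hb
      change (l_s P s K i * b * ((Quotient.out w0 : (l_P' P himg hK).N) : ↥(l_H P s K)) :
        ↥(l_H P s K)) ∈
        C (l_parBN P (l_J s K) (l_J_subset P himg hK))
          (l_s P s K i * ((Quotient.out w0 : (l_P' P himg hK).N) : ↥(l_H P s K)))
      rw [l_C_iff]
      have hb' : (b : G) ∈ P.B := hb
      have := hcon (b : G) hb'
      simpa [l_s_coe P hi] using this
    rw [hproj] at hgoal
    exact hgoal
  · intro b
    exact mem_stab (l_P' P himg hK)

end Cfsg.Agent.ChevUni
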