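import Mathlib
import Cfsg.Agent.ChevUni.H1_Final
import Cfsg.Agent.ChevUni.L_ParMain
import Cfsg.Agent.ChevUni.H1_NJ
import Cfsg.Agent.ChevUni.H1_BJ
import Cfsg.Agent.Helper7.ChevT14

set_option autoImplicit false

/-!
# The class sum of the relative Steinberg character over the `p`-elements of a parabolic (helper1)

Subtype plumbing: lead's `l_main` (abstract `(B, N)`-pair of the parabolic `P_K`), helper6's
root-subgroup facts at the level of `GL`, and the abstract class sum `h1_relSt_sum`.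
-/

namespace Cfsg.Agent.ChevUni

open Cfsg Cfsg.Lie Matrix DoubleCoset Cfsg.Agent.Helper7.Chev Cfsg.Agent.Helper7.BN
  Cfsg.Agent.Lead.SteinChar Cfsg.Agent.Lead.SteinChev Cfsg.Agent.UnipC

open scoped Pointwise

universe u

/-- The index of a subgroup of a subgroup, computed in an ambient group. -/
theorem h1_index_comap {H G₀ : Type*} [Group H] [Group G₀] (φ : H →* G₀) (B' : Subgroup H)
    (Q : Subgroup ↥B') (X Bo : Subgroup G₀)
    (hB' : ∀ x : H, x ∈ B' ↔ φ x ∈ Bo) (hBo : Bo ≤ φ.range)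
    (hQ : ∀ b : ↥B', b ∈ Q ↔ φ (b : H) ∈ X) : Q.index = X.relIndex Bo := by
  have h1 : Q = X.comap (φ.comp B'.subtype) := by
    ext b
    rw [hQ b]
    rfl
  have h2 : (φ.comp B'.subtype).range = Bo := by
    ext g
    constructor
    · rintro ⟨b, rfl⟩
      exact (hB' b).mp b.2
    · intro hg
      obtain ⟨x, rfl⟩ := hBo hg
      exact ⟨⟨x, (hB' x).mpr hg⟩, rfl⟩
  rw [h1, Subgroup.index_comap, h2]

/-- The order of a subgroup pulled back along an injective homomorphism whose range contains it. -/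
theorem h1_card_comap {H G₀ : Type*} [Group H] [Group G₀] (φ : H →* G₀)
    (hφ : Function.Injective φ) (X : Subgroup G₀) (hX : X ≤ φ.range) :
    Nat.card (X.comap φ) = Nat.card X := by
  have h1 : (X.comap φ).map φ = X := by
    rw [Subgroup.map_comap_eq, inf_eq_right.mpr hX]
  have e := (X.comap φ).equivMapOfInjective φ hφ
  rw [Nat.card_congr e.toEquiv, h1]

/-- A `p`-element of a finite group is conjugate into any given Sylow `p`-subgroup. -/
theorem h1_conj_mem_sylow {H : Type*} [Group H] [Finite H] (p : ℕ) [Fact p.Prime]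
    (S : Sylow p H) (v : H) (hv : ∃ k : ℕ, orderOf v = p ^ k) :
    ∃ x : H, x * v * x⁻¹ ∈ (S : Subgroup H) := by
  obtain ⟨k, hk⟩ := hv
  have hz : IsPGroup p (Subgroup.zpowers v) := by
    apply IsPGroup.of_card (n := k)
    rw [Nat.card_zpowers, hk]
  obtain ⟨Q, hQ⟩ := hz.exists_le_sylow
  obtain ⟨x, hx⟩ := MulAction.exists_smul_eq H Q S
  refine ⟨x, ?_⟩
  have hvQ : v ∈ (Q : Subgroup H) := hQ (Subgroup.mem_zpowers v)
  have h1 : MulAut.conj x • v ∈ MulAut.conj x • (Q : Subgroup H) :=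
    Subgroup.smul_mem_pointwise_smul _ _ _ hvQ
  rw [← hx]
  rw [Sylow.coe_subgroup_smul]
  simpa [MulAut.smul_def] using h1


theorem h1_rel {F : Type u} [Field F] [Fintype F] (p : ℕ) [Fact p.Prime] [CharP F p]
    (D : ChevalleyDatum) (hD : D ∈ [chevG2, chevB2, chevD4, chevF4, chevE6, chevE7, chevE8])
    (hsplit : ∀ (J : Set ℕ) (w : List ℕ), (∀ i ∈ w, i < D.rank) →
      (∀ j ∈ J, j < D.rank → (tabOf D).reflWord w (D.simple j) < D.nroots / 2) →
      ∀ r, D.IsPosRoot r → D.InRootSub J r → (tabOf D).reflWord w r < D.nroots / 2)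
    (P : Cfsg.BNPair ↥(D.group F))
    (hPB : P.B = (D.borelSubgroup F).subgroupOf (D.group F))
    (hPN : P.N = (D.monomialSubgroup F).subgroupOf (D.group F))
    (s : ℕ → ↥(D.group F)) (hs : s = sRep (good3_of_mem D hD).toGood2 F)
    (himg : s '' ((Finset.range D.rank : Finset ℕ) : Set ℕ) = P.S)
    {K : Finset ℕ} (hK : K ⊆ Finset.range D.rank)
    (𝒱 : Finset ↥(P.parabolic (l_J s K)))
    (h𝒱 : ∀ v, v ∈ 𝒱 ↔ ∃ k : ℕ, orderOf v = p ^ k) :
    ∑ v ∈ 𝒱, ∑ L ∈ K.powerset, (-1 : ℂ) ^ L.card *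
      Cfsg.fixedPointCharacter
        ((P.parabolic (l_J s L)).subgroupOf (P.parabolic (l_J s K))) v =
      (Fintype.card F : ℂ) ^ (D.nroots / 2) := by
  classical
  let _ : Fintype ↥(D.group F) := Fintype.ofFinite _
  have hG := good3_of_mem D hD
  have hT := T0_of_mem D hD
  have h5 := T5_of_mem D hD
  have h6 := T6_of_mem D hD
  have h7 := T7_of_mem D hD
  have h8 := T8_of_mem D hD
  have h9 := T9_of_mem D hD
  have h14 := T14_of_mem D hD
  have hG2 := hG.toGood2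
  have hG1 := hG2.toGood1
  have hBG : D.borelSubgroup F ≤ D.group F := borelSubgroup_le_group hG1
  have hUB0 : D.posUnipotent F ≤ D.borelSubgroup F := le_sup_left
  have hHB0 : D.diagonalSubgroup F ≤ D.borelSubgroup F := le_sup_right
  have hKlt : ∀ i ∈ K, i < D.rank := fun i hi => Finset.mem_range.mp (hK hi)
  -- the parabolic subgroup and its inclusion into `GL`
  have hHeq : D.parabolicIn F K = l_H P s K := by
    rw [hs]
    exact parabolicIn_eq hG2 P.B hPB K hK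
  set φ : ↥(l_H P s K) →* GL D.Idx F := (D.group F).subtype.comp (l_H P s K).subtype with hφ
  have hφinj : Function.Injective φ := by
    intro x y hxy
    exact Subtype.ext (Subtype.ext hxy)
  have hφpar : ∀ x : ↥(l_H P s K), φ x ∈ D.parabolicSubgroup F (↑K : Set ℕ) := by
    intro x
    have h1 : (x : ↥(D.group F)) ∈ D.parabolicIn F K := by
      rw [hHeq]
      exact x.2
    exact h1
  have hφB : D.borelSubgroup F ≤ φ.range := by
    intro g hg
    have hgB : (⟨g, hBG hg⟩ : ↥(D.group F)) ∈ P.B := by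
      rw [hPB, Subgroup.mem_subgroupOf]
      exact hg
    exact ⟨⟨⟨g, hBG hg⟩, l_B_le_par P _ hgB⟩, rfl⟩
  have hmemB : ∀ x : ↥(l_H P s K), x ∈ (l_P' P himg hK).B ↔ φ x ∈ D.borelSubgroup F := by
    intro x
    change (x : ↥(D.group F)) ∈ P.B ↔ _
    rw [hPB, Subgroup.mem_subgroupOf]
    rfl
  -- lead's interface
  obtain ⟨n0, hn0, -, hasc, Q, hQ, hval⟩ := l_main P himg hK
  -- `n0` as a word
  have hn0GL : ((n0 : ↥(D.group F)) : GL D.Idx F) ∈
      Subgroup.closure (h1_simpleGen D F (↑K : Set ℕ)) ⊔ D.diagonalSubgroup F := by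
    have h1 : (D.group F).subtype n0 ∈ (l_NJ P (l_J s K)).map (D.group F).subtype :=
      Subgroup.mem_map_of_mem _ hn0
    have h2 : (l_NJ P (l_J s K)).map (D.group F).subtype ≤
        Subgroup.closure (h1_simpleGen D F (↑K : Set ℕ)) ⊔ D.diagonalSubgroup F := by
      unfold l_NJ
      rw [Subgroup.map_sup, MonoidHom.map_closure]
      apply sup_le_sup
      · apply Subgroup.closure_mono
        rintro _ ⟨_, ⟨i, hi, rfl⟩, rfl⟩
        have hi' : i < D.rank := hKlt i (by exact_mod_cast hi)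
        refine ⟨i, hi, hi', ?_⟩
        rw [hs]
        exact sRep_mat hG2 hi'
      · rintro _ ⟨x, ⟨hxB, hxN⟩, rfl⟩
        have hxB' : x ∈ P.B := hxB
        have hxN' : x ∈ P.N := hxN
        rw [hPB, Subgroup.mem_subgroupOf] at hxB'
        rw [hPN, Subgroup.mem_subgroupOf] at hxN'
        have h3 : (x : GL D.Idx F) ∈ D.borelSubgroup F ⊓ D.monomialSubgroup F := ⟨hxB', hxN'⟩
        rw [borel_inf_monomial hG2 hT h6 h8 h9] at h3
        exact h3
    exact h2 h1
  obtain ⟨h, hh, w, hw, hn0eq⟩ := h1_mem_nWordsJ hG2 (↑K : Set ℕ) hn0GL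
  have hw' : ∀ j ∈ w, j < D.rank := fun j hj => (hw j hj).1
  -- signs
  have hneg : ∀ j ∈ (↑K : Set ℕ), j < D.rank →
      (tabOf D).reflWord w.reverse (D.simple j) < D.nroots / 2 := by
    intro j hjK hj
    have hjK' : j ∈ K := by exact_mod_cast hjK
    obtain ⟨b, hb, hnot⟩ := hasc j hjK'
    have hbB : (b : GL D.Idx F) ∈ D.borelSubgroup F := by
      rw [hPB, Subgroup.mem_subgroupOf] at hb
      exact hb
    apply h1_neg_of_not_mem_doubleCoset hG2 hT hG.t3 hG.t4 h5 h6 hj hh hw'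
    refine ⟨(b : GL D.Idx F), hbB, ?_⟩
    intro hmem
    apply hnot
    obtain ⟨b₁, hb₁, b₂, hb₂, e⟩ := mem_doubleCoset.mp hmem
    refine (mem_C P).mpr ⟨⟨b₁, hBG hb₁⟩, ?_, ⟨b₂, hBG hb₂⟩, ?_, ?_⟩
    · rw [hPB, Subgroup.mem_subgroupOf]; exact hb₁
    · rw [hPB, Subgroup.mem_subgroupOf]; exact hb₂
    · apply Subtype.ext
      simp only [Subgroup.coe_mul]
      rw [hs, sRep_coe hG2 hj, hn0eq]
      exact e
  have hwrev : ∀ i ∈ w.reverse, i < D.rank := fun i hi => hw' i (List.mem_reverse.mp hi)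
  have hnegAll := hsplit (↑K : Set ℕ) w.reverse hwrev hneg
  -- `Q` is `B_K`
  have hQ' : ∀ b : (l_P' P himg hK).B, b ∈ Q ↔ φ (b : ↥(l_H P s K)) ∈ (D.unipotentRadical F (↑K : Set ℕ) ⊔ D.diagonalSubgroup F) := by
    intro b
    rw [hQ b, hPB, Subgroup.mem_subgroupOf]
    have hbB : φ (b : ↥(l_H P s K)) ∈ D.borelSubgroup F := (hmemB _).mp b.2
    have h1 := h1_borel_inf_conj hG2 hT hG.t3 hG.t4 h6 h14 hw hnegAll hh (φ (b : ↥(l_H P s K)))
    have h2 : ((n0⁻¹ * ((b : ↥(l_H P s K)) : ↥(D.group F)) * n0 : ↥(D.group F)) : GL D.Idx F) =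
        (h * nWordGL hG2 w)⁻¹ * φ (b : ↥(l_H P s K)) * (h * nWordGL hG2 w) := by
      rw [← hn0eq]
      rfl
    rw [h2]
    constructor
    · intro h3
      exact h1.mp ⟨hbB, h3⟩
    · intro h3
      exact (h1.mpr h3).2
  -- the subgroups `U` and `U_K` inside `P_K`
  set U' : Subgroup ↥(l_H P s K) := (D.posUnipotent F).comap φ with hU'
  set R : Subgroup ↥(l_H P s K) := (D.unipotentRadical F (↑K : Set ℕ)).comap φ with hR
  -- Sylow
  obtain ⟨S, hS⟩ := chev_S2326 (F := F) p D hD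
  have hSle : (S : Subgroup ↥(D.group F)) ≤ l_H P s K := by
    intro x hx
    rw [hS, Subgroup.mem_subgroupOf] at hx
    apply l_B_le_par P _
    rw [hPB, Subgroup.mem_subgroupOf]
    exact hUB0 hx
  have hS' : ∀ x : ↥(l_H P s K), x ∈ ((S.subtype hSle : Sylow p ↥(l_H P s K)) :
      Subgroup ↥(l_H P s K)) ↔ x ∈ U' := by
    intro x
    rw [Sylow.coe_subtype, Subgroup.mem_subgroupOf, hS, Subgroup.mem_subgroupOf]
    rfl
  have hU : ∀ v : ↥(l_H P s K), (∃ k : ℕ, orderOf v = p ^ k) →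
      ∃ x : ↥(l_H P s K), x * v * x⁻¹ ∈ U' := by
    intro v hv
    obtain ⟨x, hx⟩ := h1_conj_mem_sylow p (S.subtype hSle) v hv
    exact ⟨x, (hS' _).mp hx⟩
  have hUB : U' ≤ (l_P' P himg hK).B := by
    intro x hx
    exact (hmemB x).mpr (hUB0 hx)
  have hRn : R.Normal := by
    constructor
    intro r hr x
    have hn := parabolic_le_normalizer_rad (F := F) hG2 hT hG.t3 hG.t4 h6 h14 (↑K : Set ℕ)
      (hφpar x)
    have h1 := (Subgroup.mem_set_normalizer_iff.mp hn (φ r)).mp hr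
    change φ (x * r * x⁻¹) ∈ D.unipotentRadical F (↑K : Set ℕ)
    rw [map_mul, map_mul, map_inv]
    exact h1
  have hRU : R ≤ U' := Subgroup.comap_mono (h1_rad_le_pos (↑K : Set ℕ))
  have hRp : ∀ r ∈ R, ∃ k : ℕ, orderOf r = p ^ k := by
    intro r hr
    have hrS : r ∈ ((S.subtype hSle : Sylow p ↥(l_H P s K)) : Subgroup ↥(l_H P s K)) :=
      (hS' r).mpr (hRU hr)
    have hpg := (S.subtype hSle).isPGroup'
    obtain ⟨k, hk⟩ := (IsPGroup.iff_orderOf.mp hpg) ⟨r, hrS⟩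
    refine ⟨k, ?_⟩
    rw [← hk]
    exact (Subgroup.orderOf_mk r hrS).symm
  have hA : ∀ u : ↥(l_P' P himg hK).B, (u : ↥(l_H P s K)) ∈ U' →
      ∀ x : ↥(l_P' P himg hK).B, x⁻¹ * u * x ∈ Q → (u : ↥(l_H P s K)) ∈ R := by
    intro u hu x hx
    rw [hQ'] at hx
    have hxB : φ (x : ↥(l_H P s K)) ∈ D.borelSubgroup F := (hmemB _).mp x.2
    have h1 : φ ((x⁻¹ * u * x : ↥(l_P' P himg hK).B) : ↥(l_H P s K)) =
        (φ (x : ↥(l_H P s K)))⁻¹ * φ (u : ↥(l_H P s K)) * φ (x : ↥(l_H P s K)) := by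
      rw [Subgroup.coe_mul, Subgroup.coe_mul, Subgroup.coe_inv, map_mul, map_mul, map_inv]
    rw [h1] at hx
    exact h1_mem_rad_of_conj hG2 hT hG.t3 hG.t4 h6 h14 hu hxB hx
  have hRA : ∀ r : ↥(l_P' P himg hK).B, (r : ↥(l_H P s K)) ∈ R → r ∈ Q := by
    intro r hr
    rw [hQ']
    exact (le_sup_left : D.unipotentRadical F (↑K : Set ℕ) ≤ (D.unipotentRadical F (↑K : Set ℕ) ⊔ D.diagonalSubgroup F)) hr
  have hcf := Cfsg.Agent.Helper6.IsCharacter.isClassFunction
    (Cfsg.Agent.Helper6.IsIrrCharacter.isCharacter (l_chi_irr P himg hK))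
  have key := h1_relSt_sum p (l_P' P himg hK).B U' R Q (l_chi P himg hK)
    (fun x v => hcf v x) hval hU hUB hRn hRU hRp hA hRA 𝒱 h𝒱
  have hsum : ∑ v ∈ 𝒱, ∑ L ∈ K.powerset, (-1 : ℂ) ^ L.card *
      Cfsg.fixedPointCharacter ((P.parabolic (l_J s L)).subgroupOf (l_H P s K)) v =
      ∑ v ∈ 𝒱, l_chi P himg hK v :=
    Finset.sum_congr rfl (fun v _ => (l_chi_apply P himg hK v).symm)
  rw [hsum, key]
  -- numerics
  have hidx : Q.index = ((D.unipotentRadical F (↑K : Set ℕ) ⊔ D.diagonalSubgroup F)).relIndex (D.borelSubgroup F) :=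
    h1_index_comap φ (l_P' P himg hK).B Q _ _ hmemB hφB hQ'
  have hcardR : Nat.card R = Nat.card (D.unipotentRadical F (↑K : Set ℕ)) :=
    h1_card_comap φ hφinj _ (((h1_rad_le_pos (↑K : Set ℕ)).trans hUB0).trans hφB)
  have hnum := h1_relIndex_mul_card (F := F) hG2 hT (↑K : Set ℕ)
  rw [card_posUnipotent hG2 hT hG.t3 hG.t4 h7 h8] at hnum
  rw [hidx, hcardR]
  exact_mod_cast congrArg (Nat.cast : ℕ → ℂ) hnum

end Cfsg.Agent.ChevUni
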