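import Mathlib
import Cfsg.Agent.Helper7.ChevMinus

set_option autoImplicit false
set_option linter.unusedSectionVars false
set_option linter.unusedVariables false

/-!
Every positive root that is not fundamental is the sum of a positive root of smaller index and a
fundamental root (a table fact, checked on the fast tables of the seven data); consequence: a word in
the fundamental reflections that makes the fundamental roots `p_j`, `j ∈ J`, negative makes every
positive root of the subsystem `Φ_J` negative.
-/

namespace Cfsg.Agent.ChevUni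

open Cfsg Cfsg.Lie Cfsg.Agent.Helper7.Chev

/-- Boolean bounded existential quantifier by primitive recursion. -/
def h6_anyLtB (n : ℕ) (p : ℕ → Bool) : Bool := Nat.rec false (fun k ih => p k || ih) n

theorem h6_anyLtB_iff (n : ℕ) (p : ℕ → Bool) :
    h6_anyLtB n p = true ↔ ∃ k, k < n ∧ p k = true := by
  induction n with
  | zero => simp [h6_anyLtB]
  | succ n ih =>
    have : h6_anyLtB (n + 1) p = (p n || h6_anyLtB n p) := rfl
    rw [this, Bool.or_eq_true, ih]
    constructor
    · rintro (h | ⟨k, hk, h⟩)
      · exact ⟨n, Nat.lt_succ_self n, h⟩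
      · exact ⟨k, Nat.lt_succ_of_lt hk, h⟩
    · rintro ⟨k, hk, h⟩
      rcases Nat.lt_succ_iff_lt_or_eq.mp hk with h' | h'
      · exact Or.inr ⟨k, h', h⟩
      · exact Or.inl (h' ▸ h)

/-- The root `r` is the sum of the positive root `r'` of smaller index and the `i`-th fundamental
root, with the support of `r'` and `i` inside the support of `r`. -/
def H6SplitWit (T : Tab) (r i r' : ℕ) : Prop :=
  T.n / 2 ≤ r' ∧ r' < r ∧ r' ≠ T.simple i ∧ T.chainRoot r' (T.simple i) 1 = some r ∧
    AllLt T.l (fun k => T.cr r k = 0 → T.cr r' k = 0 ∧ k ≠ i)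

instance (T : Tab) (r i r' : ℕ) : Decidable (H6SplitWit T r i r') := by
  unfold H6SplitWit; infer_instance

/-- The check at the root `r` and the `i`-th fundamental root: `r` is this fundamental root, or
`r - p_i` is a witness. -/
def h6_splitAt (T : Tab) (r i : ℕ) : Bool :=
  decide (r = T.simple i ∧ T.cr r i ≠ 0) ||
  match T.chainRoot (T.neg (T.simple i)) r 1 with
  | none => false
  | some r' => decide (H6SplitWit T r i r')

/-- Every positive root is fundamental or splits off a fundamental root. -/
def H6Split (T : Tab) : Prop :=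
  AllLt T.n (fun r => T.n / 2 ≤ r → h6_anyLtB T.l (h6_splitAt T r) = true)

instance (T : Tab) : Decidable (H6Split T) := by unfold H6Split; infer_instance

theorem h6_split_elim {T : Tab} (h : H6Split T) {r : ℕ} (hr : r < T.n) (hr1 : T.n / 2 ≤ r) :
    ∃ i, i < T.l ∧ ((r = T.simple i ∧ T.cr r i ≠ 0) ∨ ∃ r', H6SplitWit T r i r') := by
  obtain ⟨i, hi, hi'⟩ := (h6_anyLtB_iff _ _).mp (h r hr hr1)
  refine ⟨i, hi, ?_⟩
  unfold h6_splitAt at hi'
  rw [Bool.or_eq_true] at hi'
  rcases hi' with h1 | h1
  · exact Or.inl (of_decide_eq_true h1)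
  · right
    cases hc : T.chainRoot (T.neg (T.simple i)) r 1 with
    | none => rw [hc] at h1; exact absurd h1 (by simp)
    | some r' => rw [hc] at h1; exact ⟨r', of_decide_eq_true h1⟩

/-! ### A word making the fundamental roots of `J` negative makes `Φ_J⁺` negative -/

section main

variable {D : ChevalleyDatum}

/-- A chain root at position one gives a commutator term. -/
theorem h6_mem_commTerms {T : Tab} {r s k : ℕ} (h : T.chainRoot r s 1 = some k) :
    ∃ c ∈ T.commTerms r s, c.1 = k := by
  refine ⟨(k, T.chainM r s 1, 1, 1), ?_, rfl⟩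
  unfold Tab.commTerms
  simp only [List.filterMap_cons, h, Option.map_some]
  exact List.mem_cons_self

/-- A word in the fundamental reflections that makes the fundamental roots `p_j`, `j ∈ J`, negative
makes every positive root of `Φ_J` negative. -/
theorem h6_reflWord_neg (hG : Good2 D) (hT : T0 D) (h3 : (tabOf D).T3) (h7n : (tabOf D).T7n)
    (hS : H6Split (tabOf D)) {J : Set ℕ} {w : List ℕ} (hw : ∀ i ∈ w, i < D.rank)
    (hJ : ∀ j ∈ J, j < D.rank → (tabOf D).reflWord w (D.simple j) < D.nroots / 2) :
    ∀ r, D.IsPosRoot r → D.InRootSub J r → (tabOf D).reflWord w r < D.nroots / 2 := by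
  have hG1 := hG.toGood1
  intro r
  induction r using Nat.strong_induction_on with
  | _ r ih =>
    intro hpos hsub
    have hr : r < D.nroots := hpos.1
    have hr1 : D.nroots / 2 ≤ r := (isPosRoot_iff hT hr).mp hpos
    obtain ⟨i, hi, hcase⟩ := h6_split_elim hS (r := r) hr hr1
    change i < D.rank at hi
    -- `i ∈ J`
    have hiJ : ∀ r', ((tabOf D).cr r i = 0 → (tabOf D).cr r' i = 0 ∧ i ≠ i) → i ∈ J := by
      intro r' h
      by_contra hiJ
      exact (h (hsub.2 i hi hiJ)).2 rfl
    rcases hcase with ⟨rfl, hne⟩ | ⟨r', h1, h2, h3', h4, h5⟩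
    · have : i ∈ J := by
        by_contra hiJ
        exact hne (hsub.2 i hi hiJ)
      exact hJ i this hi
    · change D.nroots / 2 ≤ r' at h1
      change r' ≠ D.simple i at h3'
      have hr' : r' < D.nroots := lt_trans h2 hr
      have hi' : i ∈ J := hiJ r' (h5 i hi)
      have hpos' : D.IsPosRoot r' := (isPosRoot_iff hT hr').mpr h1
      have hsub' : D.InRootSub J r' :=
        ⟨hr', fun k hk hkJ => (h5 k hk (hsub.2 k hk hkJ)).1⟩
      have ih' := ih r' h2 hpos' hsub'
      have hp := hG1.simple_lt hi
      have hp1 := simple_pos hG1 hT hi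
      have hpw := hJ i hi' hi
      obtain ⟨c, hc, hc1⟩ := h6_mem_commTerms h4
      have hsn : D.simple i ≠ D.neg r' := by
        intro h
        have := neg_neg_of_pos hG hT hr' h1
        omega
      obtain ⟨c', hc', e'⟩ := commTerms_reflWord hG h3 hw hr' hp (Ne.symm h3') hsn c hc
      have hwr := reflWord_lt hG hw hr'
      have hws := reflWord_lt hG hw hp
      have hne : (tabOf D).reflWord w (D.simple i) ≠ (tabOf D).reflWord w r' :=
        fun h => h3' (reflWord_injective hG hw hp hr' h).symm
      have hneg := h7n _ hwr ih' _ hws hpw hne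
      rw [List.all_eq_true] at hneg
      have := of_decide_eq_true (hneg c' hc')
      rw [e', hc1] at this
      exact this

end main

end Cfsg.Agent.ChevUni
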