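import Mathlib
import Cfsg.Agent.ChevUni.H6_Split
import Cfsg.Agent.Helper7.ChevLevi1
import Cfsg.Agent.Helper7.ChevBN

set_option autoImplicit false
set_option linter.unusedSectionVars false
set_option linter.unusedVariables false

/-!
For a word `w` in the fundamental reflections of `J` whose inverse makes the fundamental roots of `J`
negative, `h ∈ H` and `n₀ = h n_w`:  `B ∩ n₀ B n₀⁻¹ = U_J H`.
-/

namespace Cfsg.Agent.ChevUni

open Cfsg Cfsg.Lie Matrix Cfsg.Agent.Helper7.Chev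
open scoped Pointwise

variable {D : ChevalleyDatum} {F : Type*} [Field F]

/-- The roots of `U ∩ L_J`. -/
def H6InLev (D : ChevalleyDatum) (J : Set ℕ) (r : ℕ) : Prop := D.IsPosRoot r ∧ D.InRootSub J r

/-- The subgroup `U_J H`. -/
def h6_BJ (D : ChevalleyDatum) (F : Type*) [Field F] (J : Set ℕ) : Subgroup (GL D.Idx F) :=
  D.unipotentRadical F J ⊔ D.diagonalSubgroup F

/-- `U = ⟨U_J, X_r (r ∈ Φ_J⁺)⟩`. -/
theorem h6_pos_eq_sup (J : Set ℕ) :
    D.posUnipotent F =
      D.unipotentRadical F J ⊔ Subgroup.closure (rootGen D F (H6InLev D J)) := by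
  classical
  rw [unipotentRadical_eq, posUnipotent_eq, ← Subgroup.closure_union]
  congr 1
  ext g
  constructor
  · rintro ⟨r, t, hr, hg⟩
    by_cases hrJ : D.InRootSub J r
    · exact Or.inr ⟨r, t, ⟨hr, hrJ⟩, hg⟩
    · exact Or.inl ⟨r, t, ⟨hr, hrJ⟩, hg⟩
  · rintro (⟨r, t, hr, hg⟩ | ⟨r, t, hr, hg⟩)
    · exact ⟨r, t, hr.1, hg⟩
    · exact ⟨r, t, hr.1, hg⟩

theorem h6_rad_le_pos (J : Set ℕ) : D.unipotentRadical F J ≤ D.posUnipotent F := by
  rw [h6_pos_eq_sup J]
  exact le_sup_left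

theorem h6_BJ_le_borel (J : Set ℕ) : h6_BJ D F J ≤ D.borelSubgroup F :=
  sup_le_sup_right (h6_rad_le_pos J) _

section main

variable (hG : Good2 D) (hT : T0 D) (h3 : (tabOf D).T3) (h4 : (tabOf D).T4 60)
  (h6 : (tabOf D).T6) (h7n : (tabOf D).T7n) (h14 : (tabOf D).T14) (hS : H6Split (tabOf D))

include hG hT h3 h4 h14 in
/-- Every element of `U` is the product of an element of `U_J` and one of `⟨X_r : r ∈ Φ_J⁺⟩`. -/
theorem h6_pos_decomp (J : Set ℕ) {u : GL D.Idx F} (hu : u ∈ D.posUnipotent F) :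
    ∃ a ∈ D.unipotentRadical F J, ∃ c ∈ Subgroup.closure (rootGen D F (H6InLev D J)),
      u = a * c := by
  have hnorm : D.posUnipotent F ≤
      Subgroup.normalizer (D.unipotentRadical F J : Set (GL D.Idx F)) := by
    have := posUnipotent_le_normalizer_rad (F := F) hG hT h3 h4 h14 J
    rwa [← unipotentRadical_eq] at this
  have hle : Subgroup.closure (rootGen D F (H6InLev D J)) ≤
      Subgroup.normalizer (D.unipotentRadical F J : Set (GL D.Idx F)) := by
    refine le_trans ?_ hnorm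
    rw [h6_pos_eq_sup J]
    exact le_sup_right
  have hmul := Subgroup.coe_mul_of_right_le_normalizer_left (D.unipotentRadical F J)
    (Subgroup.closure (rootGen D F (H6InLev D J))) hle
  have hu' : u ∈ ((D.unipotentRadical F J ⊔ Subgroup.closure (rootGen D F (H6InLev D J)) :
      Subgroup (GL D.Idx F)) : Set (GL D.Idx F)) := by
    rw [← h6_pos_eq_sup J]; exact hu
  rw [hmul] at hu'
  obtain ⟨a, ha, c, hc, rfl⟩ := hu'
  exact ⟨a, ha, c, hc, rfl⟩

include hG hT h3 h7n hS in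
/-- Conjugation by `n₀⁻¹` carries `⟨X_r : r ∈ Φ_J⁺⟩` into `V`. -/
theorem h6_conj_lev_mem_neg {J : Set ℕ} {w : List ℕ} (hw : ∀ i ∈ w, i < D.rank)
    (hneg : ∀ j ∈ J, j < D.rank → (tabOf D).reflWord w.reverse (D.simple j) < D.nroots / 2)
    {h : GL D.Idx F} (hh : h ∈ D.diagonalSubgroup F)
    {c : GL D.Idx F} (hc : c ∈ Subgroup.closure (rootGen D F (H6InLev D J))) :
    (h * nWordGL hG w)⁻¹ * c * (h * nWordGL hG w) ∈ D.negUnipotent F := by
  have hG1 := hG.toGood1
  have hrev : ∀ i ∈ w.reverse, i < D.rank := fun i hi => hw i (List.mem_reverse.mp hi)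
  have key := conj_closure_le (S := rootGen D F (H6InLev D J)) (S' := rootGen D F D.IsNegRoot)
    ((h * nWordGL hG w)⁻¹) ?_ c hc
  · rw [inv_inv] at key
    exact key
  · rintro x ⟨r, t, ⟨hrpos, hrJ⟩, hx⟩
    have hr := hrpos.1
    have hx' : x = xGL hG1 hr t := eq_xGL hG1 hr hx
    rw [inv_inv, hx']
    obtain ⟨t', ht'⟩ := diagonal_conj_xGL' hG hh hr t
    obtain ⟨hr', t'', ht''⟩ := nWordGL_inv_conj (F := F) hG hw hr t'
    have e : (h * nWordGL hG w)⁻¹ * xGL hG1 hr t * (h * nWordGL hG w) =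
        (nWordGL hG w)⁻¹ * (h⁻¹ * xGL hG1 hr t * h) * nWordGL hG w := by group
    rw [e, ht', ht'']
    have hlt := h6_reflWord_neg hG hT h3 h7n hS hrev hneg r hrpos hrJ
    exact Subgroup.subset_closure ⟨_, t'', (isNegRoot_iff hT hr').mpr hlt, xGL_coe hG1 hr' t''⟩

include hG in
/-- The element of `N` of a word in `J` lies in `P_J`. -/
theorem h6_nWordGL_mem_parabolic {J : Set ℕ} {w : List ℕ} (hw : ∀ i ∈ w, i < D.rank ∧ i ∈ J) :
    (nWordGL hG w : GL D.Idx F) ∈ D.parabolicSubgroup F J := by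
  induction w with
  | nil => rw [nWordGL_nil]; exact one_mem _
  | cons i w ih =>
    have hi := hw i List.mem_cons_self
    rw [nWordGL_cons hG hi.1]
    exact mul_mem (nGL_mem_parabolic hG hi.1 hi.2)
      (ih fun j hj => hw j (List.mem_cons_of_mem _ hj))

include hG hT h3 h4 h6 h7n h14 hS in
/-- `B ∩ n₀ B n₀⁻¹ = U_J H`. -/
theorem h6_borel_inf_conj {J : Set ℕ} {w : List ℕ} (hw : ∀ i ∈ w, i < D.rank ∧ i ∈ J)
    (hneg : ∀ j ∈ J, j < D.rank → (tabOf D).reflWord w.reverse (D.simple j) < D.nroots / 2)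
    {h : GL D.Idx F} (hh : h ∈ D.diagonalSubgroup F) (b : GL D.Idx F) :
    (b ∈ D.borelSubgroup F ∧ (h * nWordGL hG w)⁻¹ * b * (h * nWordGL hG w) ∈ D.borelSubgroup F) ↔
      b ∈ h6_BJ D F J := by
  have hG1 := hG.toGood1
  have hw' : ∀ i ∈ w, i < D.rank := fun i hi => (hw i hi).1
  set n0 : GL D.Idx F := h * nWordGL hG w with hn0
  have hUB : D.posUnipotent F ≤ D.borelSubgroup F := le_sup_left
  have hHB : D.diagonalSubgroup F ≤ D.borelSubgroup F := le_sup_right
  have hn0N : n0 ∈ D.monomialSubgroup F :=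
    mul_mem (Subgroup.mem_sup_left hh) (nWordGL_mem hG w)
  have hn0H := monomialSubgroup_le_normalizer hG hn0N
  have hn0P : n0 ∈ D.parabolicSubgroup F J :=
    mul_mem (Subgroup.mem_sup_left (hHB hh)) (h6_nWordGL_mem_parabolic hG hw)
  have hn0R := parabolic_le_normalizer_rad (F := F) hG hT h3 h4 h6 h14 J hn0P
  have hconjR : ∀ a ∈ D.unipotentRadical F J, n0⁻¹ * a * n0 ∈ D.unipotentRadical F J := by
    intro a ha
    have := (Subgroup.mem_set_normalizer_iff.mp (inv_mem hn0R) a).mp ha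
    rwa [inv_inv] at this
  constructor
  · rintro ⟨hb, hb'⟩
    have hmul := Subgroup.coe_mul_of_right_le_normalizer_left (D.posUnipotent F)
      (D.diagonalSubgroup F) (diagonalSubgroup_le_normalizer_pos hG)
    obtain ⟨u, hu, h1, hh1, rfl⟩ : b ∈ (D.posUnipotent F : Set (GL D.Idx F)) *
        (D.diagonalSubgroup F : Set (GL D.Idx F)) := by
      rw [← hmul]; exact hb
    obtain ⟨a, ha, c, hc, rfl⟩ := h6_pos_decomp hG hT h3 h4 h14 J hu
    have c1 : n0⁻¹ * a * n0 ∈ D.borelSubgroup F := hUB (h6_rad_le_pos J (hconjR a ha))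
    have c3 : n0⁻¹ * h1 * n0 ∈ D.borelSubgroup F := hHB (conj_mem_diagonal' hn0H hh1)
    have e : n0⁻¹ * c * n0 =
        (n0⁻¹ * a * n0)⁻¹ * (n0⁻¹ * (a * c * h1) * n0) * (n0⁻¹ * h1 * n0)⁻¹ := by group
    have c2 : n0⁻¹ * c * n0 ∈ D.borelSubgroup F := by
      rw [e]
      exact mul_mem (mul_mem (inv_mem c1) hb') (inv_mem c3)
    have c2' : n0⁻¹ * c * n0 ∈ D.negUnipotent F :=
      h6_conj_lev_mem_neg hG hT h3 h7n hS hw' hneg hh hc
    have hone : n0⁻¹ * c * n0 = 1 := by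
      have : n0⁻¹ * c * n0 ∈ D.borelSubgroup F ⊓ D.negUnipotent F := ⟨c2, c2'⟩
      rw [borel_inf_negUnipotent hG hT] at this
      exact Subgroup.mem_bot.mp this
    have hc1 : c = 1 := by
      have : c = n0 * (n0⁻¹ * c * n0) * n0⁻¹ := by group
      rw [this, hone]; group
    rw [hc1, mul_one]
    exact mul_mem (Subgroup.mem_sup_left ha) (Subgroup.mem_sup_right hh1)
  · intro hb
    refine ⟨h6_BJ_le_borel J hb, ?_⟩
    have hle : h6_BJ D F J ≤ (D.borelSubgroup F).map (MulAut.conj n0).toMonoidHom := by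
      unfold h6_BJ
      apply sup_le
      · intro a ha
        refine ⟨n0⁻¹ * a * n0, hUB (h6_rad_le_pos J (hconjR a ha)), ?_⟩
        simp only [MulEquiv.coe_toMonoidHom, MulAut.conj_apply]
        group
      · intro a ha
        refine ⟨n0⁻¹ * a * n0, hHB (conj_mem_diagonal' hn0H ha), ?_⟩
        simp only [MulEquiv.coe_toMonoidHom, MulAut.conj_apply]
        group
    obtain ⟨y, hy, hyb⟩ := hle hb
    simp only [MulEquiv.coe_toMonoidHom, MulAut.conj_apply] at hyb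
    rw [← hyb]
    have : n0⁻¹ * (n0 * y * n0⁻¹) * n0 = y := by group
    rw [this]
    exact hy

end main

end Cfsg.Agent.ChevUni
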