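import Mathlib
import Cfsg.Agent.ChevUni.H6_BJ

set_option autoImplicit false
set_option linter.unusedSectionVars false
set_option linter.unusedVariables false

/-!
Further facts on `B_J = U_J H`: an element of `U` with a `B`-conjugate in `B_J` lies in `U_J`;
`[B : B_J] |U_J| = |U|`; the elements of `U` have `p`-power order; Sylow conjugacy inside an
intermediate subgroup.
-/

namespace Cfsg.Agent.ChevUni

open Cfsg Cfsg.Lie Matrix Cfsg.Agent.Helper7.Chev
open scoped Pointwise

section generic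

variable {G : Type*} [Group G]

/-- The order of `A B` for `B` normalising `A` and `A ∩ B = 1`. -/
theorem h6_card_sup (A B : Subgroup G) (hB : B ≤ Subgroup.normalizer (A : Set G))
    (hAB : A ⊓ B = ⊥) : Nat.card (A ⊔ B : Subgroup G) = Nat.card A * Nat.card B := by
  have hmul := Subgroup.coe_mul_of_right_le_normalizer_left A B hB
  rw [← Nat.card_prod]
  symm
  refine Nat.card_congr (Equiv.ofBijective
    (fun ab : A × B => (⟨(ab.1 : G) * (ab.2 : G),
      mul_mem (Subgroup.mem_sup_left ab.1.2) (Subgroup.mem_sup_right ab.2.2)⟩ :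
        (A ⊔ B : Subgroup G))) ⟨?_, ?_⟩)
  · rintro ⟨a, b⟩ ⟨a', b'⟩ hab
    have hab' : (a : G) * (b : G) = (a' : G) * (b' : G) := congrArg Subtype.val hab
    have h1 : (a' : G)⁻¹ * (a : G) = (b' : G) * (b : G)⁻¹ := by
      have : (a' : G)⁻¹ * ((a : G) * (b : G)) * (b : G)⁻¹ =
          (a' : G)⁻¹ * ((a' : G) * (b' : G)) * (b : G)⁻¹ := by rw [hab']
      calc (a' : G)⁻¹ * (a : G) = (a' : G)⁻¹ * ((a : G) * (b : G)) * (b : G)⁻¹ := by group
        _ = (a' : G)⁻¹ * ((a' : G) * (b' : G)) * (b : G)⁻¹ := this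
        _ = (b' : G) * (b : G)⁻¹ := by group
    have h2 : (a' : G)⁻¹ * (a : G) ∈ A ⊓ B := by
      refine Subgroup.mem_inf.mpr ⟨A.mul_mem (A.inv_mem a'.2) a.2, ?_⟩
      rw [h1]
      exact B.mul_mem b'.2 (B.inv_mem b.2)
    rw [hAB, Subgroup.mem_bot] at h2
    have h3 : (a : G) = (a' : G) := by
      have := inv_mul_eq_one.mp h2
      exact this.symm
    have h4 : (b : G) = (b' : G) := by
      rw [h3] at hab'
      exact mul_left_cancel hab'
    exact Prod.ext (Subtype.ext h3) (Subtype.ext h4)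
  · rintro ⟨g, hg⟩
    have hg' : g ∈ ((A ⊔ B : Subgroup G) : Set G) := hg
    rw [hmul] at hg'
    obtain ⟨a, ha, b, hb, rfl⟩ := hg'
    exact ⟨(⟨a, ha⟩, ⟨b, hb⟩), rfl⟩

/-- Sylow conjugacy inside an intermediate subgroup. -/
theorem h6_sylow_conj [Finite G] {p : ℕ} [Fact p.Prime] (P : Sylow p G) (K : Subgroup G)
    (hPK : (P : Subgroup G) ≤ K) {v : G} (hv : v ∈ K) (hk : ∃ k : ℕ, orderOf v = p ^ k) :
    ∃ x ∈ K, x * v * x⁻¹ ∈ (P : Subgroup G) := by
  classical
  set P' : Sylow p K := P.subtype hPK with hP'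
  have hz : IsPGroup p (Subgroup.zpowers (⟨v, hv⟩ : K)) := by
    obtain ⟨k, hk⟩ := hk
    apply IsPGroup.of_card (n := k)
    rw [Nat.card_zpowers]
    rw [← hk]
    exact (Subgroup.orderOf_mk v hv)
  obtain ⟨Q, hQ⟩ := hz.exists_le_sylow
  obtain ⟨g, hg⟩ := MulAction.exists_smul_eq K Q P'
  have hvQ : (⟨v, hv⟩ : K) ∈ Q := hQ (Subgroup.mem_zpowers _)
  have hmem : g * (⟨v, hv⟩ : K) * g⁻¹ ∈ ((g • Q : Sylow p K) : Set K) := by
    rw [Sylow.coe_smul]
    exact ⟨⟨v, hv⟩, hvQ, rfl⟩
  rw [hg, hP'] at hmem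
  have hmem' : g * (⟨v, hv⟩ : K) * g⁻¹ ∈ (P : Subgroup G).subgroupOf K := by
    rw [← Sylow.coe_subtype]
    exact hmem
  rw [Subgroup.mem_subgroupOf] at hmem'
  exact ⟨g, g.2, by simpa using hmem'⟩

end generic

variable {D : ChevalleyDatum} {F : Type*} [Field F]

section main

variable (hG : Good2 D) (hT : T0 D) (h3 : (tabOf D).T3) (h4 : (tabOf D).T4 60)
  (h6 : (tabOf D).T6) (h14 : (tabOf D).T14)

include hG in
theorem h6_diagonal_le_normalizer_rad (J : Set ℕ) :
    D.diagonalSubgroup F ≤ Subgroup.normalizer (D.unipotentRadical F J : Set (GL D.Idx F)) := by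
  rw [unipotentRadical_eq]
  exact diagonalSubgroup_le_normalizer hG (fun r hr => hr.1.1)

include hG hT in
theorem h6_rad_inf_diagonal (J : Set ℕ) :
    D.unipotentRadical F J ⊓ D.diagonalSubgroup F = ⊥ := by
  rw [eq_bot_iff, ← posUnipotent_inf_diagonal (F := F) hG hT]
  exact inf_le_inf_right _ (h6_rad_le_pos J)

include hG hT h3 h4 h6 h14 in
/-- `B` normalises `U_J`. -/
theorem h6_borel_le_normalizer_rad (J : Set ℕ) :
    D.borelSubgroup F ≤ Subgroup.normalizer (D.unipotentRadical F J : Set (GL D.Idx F)) :=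
  le_trans le_sup_left (parabolic_le_normalizer_rad (F := F) hG hT h3 h4 h6 h14 J)

include hG in
/-- `B` normalises `U`. -/
theorem h6_borel_le_normalizer_pos :
    D.borelSubgroup F ≤ Subgroup.normalizer (D.posUnipotent F : Set (GL D.Idx F)) :=
  sup_le Subgroup.le_normalizer (diagonalSubgroup_le_normalizer_pos hG)

include hG hT h3 h4 h6 h14 in
/-- An element of `U` with a `B`-conjugate in `B_J` lies in `U_J`. -/
theorem h6_mem_rad_of_conj {J : Set ℕ} {u x : GL D.Idx F} (hu : u ∈ D.posUnipotent F)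
    (hx : x ∈ D.borelSubgroup F) (hy : x⁻¹ * u * x ∈ h6_BJ D F J) :
    u ∈ D.unipotentRadical F J := by
  have hyU : x⁻¹ * u * x ∈ D.posUnipotent F := by
    have := (Subgroup.mem_set_normalizer_iff.mp
      (inv_mem (h6_borel_le_normalizer_pos (F := F) hG hx)) u).mp hu
    rwa [inv_inv] at this
  have hmul := Subgroup.coe_mul_of_right_le_normalizer_left (D.unipotentRadical F J)
    (D.diagonalSubgroup F) (h6_diagonal_le_normalizer_rad hG J)
  have hy' : x⁻¹ * u * x ∈ ((D.unipotentRadical F J ⊔ D.diagonalSubgroup F :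
      Subgroup (GL D.Idx F)) : Set (GL D.Idx F)) := hy
  rw [hmul] at hy'
  obtain ⟨a, ha, h1, hh1, e⟩ := hy'
  have e : a * h1 = x⁻¹ * u * x := e
  have hh1U : h1 ∈ D.posUnipotent F := by
    have : h1 = a⁻¹ * (x⁻¹ * u * x) := by rw [← e]; group
    rw [this]
    exact mul_mem (inv_mem (h6_rad_le_pos J ha)) hyU
  have hh1one : h1 = 1 := by
    have : h1 ∈ D.posUnipotent F ⊓ D.diagonalSubgroup F := ⟨hh1U, hh1⟩
    rw [posUnipotent_inf_diagonal hG hT] at this
    exact Subgroup.mem_bot.mp this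
  have hyR : x⁻¹ * u * x ∈ D.unipotentRadical F J := by
    rw [← e, hh1one, mul_one]; exact ha
  have hxN := h6_borel_le_normalizer_rad (F := F) hG hT h3 h4 h6 h14 J hx
  have := (Subgroup.mem_set_normalizer_iff.mp hxN (x⁻¹ * u * x)).mp hyR
  have e2 : x * (x⁻¹ * u * x) * x⁻¹ = u := by group
  rwa [e2] at this

include hG hT in
/-- `[B : B_J] |U_J| = |U|`. -/
theorem h6_relIndex_mul_card [Fintype F] (J : Set ℕ) :
    (h6_BJ D F J).relIndex (D.borelSubgroup F) * Nat.card (D.unipotentRadical F J) =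
      Nat.card (D.posUnipotent F) := by
  have c1 : Nat.card (D.borelSubgroup F) =
      Nat.card (D.posUnipotent F) * Nat.card (D.diagonalSubgroup F) :=
    h6_card_sup _ _ (diagonalSubgroup_le_normalizer_pos hG) (posUnipotent_inf_diagonal hG hT)
  have c2 : Nat.card (h6_BJ D F J) =
      Nat.card (D.unipotentRadical F J) * Nat.card (D.diagonalSubgroup F) :=
    h6_card_sup _ _ (h6_diagonal_le_normalizer_rad hG J) (h6_rad_inf_diagonal hG hT J)
  have hle : h6_BJ D F J ≤ D.borelSubgroup F := h6_BJ_le_borel J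
  have c3 : Nat.card (h6_BJ D F J) * (h6_BJ D F J).relIndex (D.borelSubgroup F) =
      Nat.card (D.borelSubgroup F) := by
    rw [Subgroup.relIndex, ← Subgroup.card_mul_index ((h6_BJ D F J).subgroupOf (D.borelSubgroup F)),
      Nat.card_congr (Subgroup.subgroupOfEquivOfLe hle).toEquiv]
  rw [c1, c2] at c3
  have hpos : 0 < Nat.card (D.diagonalSubgroup F) := Nat.card_pos
  have : (h6_BJ D F J).relIndex (D.borelSubgroup F) * Nat.card (D.unipotentRadical F J) *
      Nat.card (D.diagonalSubgroup F) =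
      Nat.card (D.posUnipotent F) * Nat.card (D.diagonalSubgroup F) := by
    rw [← c3]; ring
  exact Nat.eq_of_mul_eq_mul_right hpos this

end main

end Cfsg.Agent.ChevUni
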