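import Mathlib
import Cfsg.Agent.Helper7.ChevBN

set_option autoImplicit false
set_option linter.unusedSectionVars false
set_option linter.unusedVariables false

/-!
The subgroup `⟨n_{p_j} : j ∈ J⟩ H` of `N` consists of the products `h n_w`, `h ∈ H`, `w` a word in `J`;
and the failure of the double coset condition `n_i B n₀ ⊆ B n_i n₀ B` for `n₀ = h n_w` shows that `w⁻¹`
makes the fundamental root `p_i` negative.
-/

namespace Cfsg.Agent.ChevUni

open Cfsg Cfsg.Lie Matrix Cfsg.Agent.Helper7.Chev DoubleCoset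
open scoped Pointwise

variable {D : ChevalleyDatum} {F : Type*} [Field F]

/-- The generators `n_{p_j}`, `j ∈ J`. -/
def h6_simpleGen (D : ChevalleyDatum) (F : Type*) [Field F] (J : Set ℕ) : Set (GL D.Idx F) :=
  {g | ∃ j ∈ J, j < D.rank ∧ (g : Matrix D.Idx D.Idx F) = D.nMat F (D.simple j) 1}

theorem h6_parabolic_eq (J : Set ℕ) :
    D.parabolicSubgroup F J = D.borelSubgroup F ⊔ Subgroup.closure (h6_simpleGen D F J) := rfl

section words

variable (hG : Good2 D)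

/-- The products of an element of `H` and a word in the `n_{p_j}`, `j ∈ J`. -/
def h6_nWordsJ (hG : Good2 D) (F : Type*) [Field F] (J : Set ℕ) : Set (GL D.Idx F) :=
  {g | ∃ h ∈ D.diagonalSubgroup F, ∃ w : List ℕ, (∀ i ∈ w, i < D.rank ∧ i ∈ J) ∧
    g = h * nWordGL hG w}

theorem h6_diagonal_subset_nWordsJ (J : Set ℕ) {h : GL D.Idx F} (hh : h ∈ D.diagonalSubgroup F) :
    h ∈ h6_nWordsJ hG F J :=
  ⟨h, hh, [], by simp, by rw [nWordGL_nil, mul_one]⟩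

theorem h6_nWordsJ_mul (J : Set ℕ) {g₁ g₂ : GL D.Idx F} (h₁ : g₁ ∈ h6_nWordsJ hG F J)
    (h₂ : g₂ ∈ h6_nWordsJ hG F J) : g₁ * g₂ ∈ h6_nWordsJ hG F J := by
  obtain ⟨a₁, ha₁, w₁, hw₁, rfl⟩ := h₁
  obtain ⟨a₂, ha₂, w₂, hw₂, rfl⟩ := h₂
  refine ⟨a₁ * (nWordGL hG w₁ * a₂ * (nWordGL hG w₁)⁻¹), ?_, w₁ ++ w₂, ?_, ?_⟩
  · exact mul_mem ha₁ (conj_mem_diagonal (nWordGL_mem_normalizer hG w₁) ha₂)
  · intro i hi
    rcases List.mem_append.mp hi with h | h
    · exact hw₁ i h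
    · exact hw₂ i h
  · rw [nWordGL_append]; group

theorem h6_nGL_mem_nWordsJ {J : Set ℕ} {i : ℕ} (hi : i < D.rank) (hiJ : i ∈ J) :
    (nGL hG.toGood1 (hG.toGood1.simple_lt hi) : GL D.Idx F) ∈ h6_nWordsJ hG F J := by
  refine ⟨1, one_mem _, [i], ?_, ?_⟩
  · intro j hj
    rw [List.mem_singleton] at hj
    rw [hj]; exact ⟨hi, hiJ⟩
  · rw [nWordGL_cons hG hi, nWordGL_nil, mul_one, one_mul]

theorem h6_nGL_inv_mem_nWordsJ {J : Set ℕ} {i : ℕ} (hi : i < D.rank) (hiJ : i ∈ J) :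
    ((nGL hG.toGood1 (hG.toGood1.simple_lt hi))⁻¹ : GL D.Idx F) ∈ h6_nWordsJ hG F J := by
  set n : GL D.Idx F := nGL hG.toGood1 (hG.toGood1.simple_lt hi) with hn
  have e : n⁻¹ = (n * n)⁻¹ * n := by group
  rw [e]
  exact h6_nWordsJ_mul hG J (h6_diagonal_subset_nWordsJ hG J (inv_mem (nGL_sq_mem hG _)))
    (h6_nGL_mem_nWordsJ hG hi hiJ)

/-- `⟨n_{p_j} : j ∈ J⟩ H` consists of the products `h n_w`. -/
theorem h6_mem_nWordsJ (J : Set ℕ) {g : GL D.Idx F}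
    (hg : g ∈ Subgroup.closure (h6_simpleGen D F J) ⊔ D.diagonalSubgroup F) :
    g ∈ h6_nWordsJ hG F J := by
  have hG1 := hG.toGood1
  have hgen : ∀ x ∈ h6_simpleGen D F J ∪ (D.diagonalSubgroup F : Set (GL D.Idx F)),
      x ∈ h6_nWordsJ hG F J ∧ x⁻¹ ∈ h6_nWordsJ hG F J := by
    rintro x (⟨j, hjJ, hj, hx⟩ | hx)
    · have hx' : x = nGL hG1 (hG1.simple_lt hj) :=
        Units.ext (hx.trans (nGL_coe hG1 (hG1.simple_lt hj)).symm)
      rw [hx']
      exact ⟨h6_nGL_mem_nWordsJ hG hj hjJ, h6_nGL_inv_mem_nWordsJ hG hj hjJ⟩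
    · exact ⟨h6_diagonal_subset_nWordsJ hG J hx, h6_diagonal_subset_nWordsJ hG J (inv_mem hx)⟩
  have hg' : g ∈ Subgroup.closure
      (h6_simpleGen D F J ∪ (D.diagonalSubgroup F : Set (GL D.Idx F))) := by
    rw [Subgroup.closure_union, Subgroup.closure_eq]
    exact hg
  clear hg
  have key : g ∈ h6_nWordsJ hG F J ∧ g⁻¹ ∈ h6_nWordsJ hG F J := by
    induction hg' using Subgroup.closure_induction with
    | mem x hx => exact hgen x hx
    | one =>
      rw [inv_one]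
      exact ⟨h6_diagonal_subset_nWordsJ hG J (one_mem _),
        h6_diagonal_subset_nWordsJ hG J (one_mem _)⟩
    | mul x y _ _ hx hy =>
      rw [_root_.mul_inv_rev]
      exact ⟨h6_nWordsJ_mul hG J hx.1 hy.1, h6_nWordsJ_mul hG J hy.2 hx.2⟩
    | inv x _ hx =>
      rw [inv_inv]
      exact ⟨hx.2, hx.1⟩
  exact key.1

end words

section cond

variable (hG : Good2 D) (hT : T0 D) (h3 : (tabOf D).T3) (h4 : (tabOf D).T4 60) (h5 : (tabOf D).T5)
  (h6 : (tabOf D).T6)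

include hG hT h3 h4 h5 h6 in
/-- If `n_i B n₀ ⊄ B n_i n₀ B` for `n₀ = h n_w`, then `w⁻¹` makes `p_i` negative. -/
theorem h6_neg_of_not_mem_doubleCoset {i : ℕ} (hi : i < D.rank) {h : GL D.Idx F}
    (hh : h ∈ D.diagonalSubgroup F) {w : List ℕ} (hw : ∀ j ∈ w, j < D.rank)
    (hex : ∃ b ∈ D.borelSubgroup F,
      nGL hG.toGood1 (hG.toGood1.simple_lt hi) * b * (h * nWordGL hG w) ∉
        doubleCoset (nGL hG.toGood1 (hG.toGood1.simple_lt hi) * (h * nWordGL hG w))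
          (D.borelSubgroup F : Set (GL D.Idx F)) (D.borelSubgroup F)) :
    (tabOf D).reflWord w.reverse (D.simple i) < D.nroots / 2 := by
  by_contra hcon
  rw [not_lt] at hcon
  obtain ⟨b, hb, hbn⟩ := hex
  exact hbn (mul_mem_doubleCoset_of_pos hG hT h3 h4 h5 h6 hi hh hw hcon hb)

end cond

end Cfsg.Agent.ChevUni
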